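/-
Groups of symplectic transformations in characteristic two containing a complement to the transvection group
in the group of Siegel elements centred at one vector: points, parameters and the basic commutator.
-/
import Cfsg.Agent.Lib.SpFour.Basic

set_option autoImplicit false
set_option linter.all false

namespace CfsgLib.SpTwoOver

open Matrix CfsgLib.Transvec CfsgLib.SpFour
open scoped MatrixGroups

variable {ι : Type} [Fintype ι] [DecidableEq ι] {F : Type*} [Field F]

/-- `φ` selects for every `w ⊥ a` a Siegel element in `L` centred at `a`. -/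
structure Sieg (f : (ι → F) → (ι → F) → F) (L : Subgroup (GL ι F)) (a : ι → F) (φ : (ι → F) → F) : Prop where
  mem : ∀ w, f a w = 0 → Rt f a w (φ w) ∈ L
  add : ∀ w w', f a w = 0 → f a w' = 0 → φ (w + w') = φ w + φ w' + f w w'
  line : ∀ t : F, φ (t • a) = 0

/-- The `L`-orbit of the line through `a0`. -/
def Orb (L : Subgroup (GL ι F)) (a0 p : ι → F) : Prop :=
  ∃ g ∈ L, ∃ s : F, s ≠ 0 ∧ p = s • ((g : Matrix ι ι F) *ᵥ a0)

/-- `L` contains no transvection centred at `a0`. -/
def NoT (f : (ι → F) → (ι → F) → F) (L : Subgroup (GL ι F)) (a0 : ι → F) : Prop :=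
  ∀ c, sT f a0 c ∈ L → c = 0

variable {f : (ι → F) → (ι → F) → F} (hf : Cfsg.Geo.IsSymplecticForm f) {L : Subgroup (GL ι F)}

section

variable [CharP F 2]

lemma two_mem {a : F} : a + a = 0 := CharTwo.add_self_eq_zero a

include hf

lemma Rt_smul (a w : ι → F) (haw : f a w = 0) {s : F} (c : F) :
    Rt f (s • a) w c = Rt f a (s • w) (s ^ 2 * c) := gl_ext fun x => by
  rw [Rt_mulVec hf (by rw [smul_left' hf, haw, mul_zero]), Rt_mulVec hf (by rw [smul_right' hf, haw, mul_zero])]
  simp only [smul_right' hf]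
  module

lemma Sieg.zero {a : ι → F} {φ : (ι → F) → F} (h : Sieg f L a φ) : φ 0 = 0 := by
  simpa using h.line 0

lemma Sieg.shift {a : ι → F} {φ : (ι → F) → F} (h : Sieg f L a φ) {w : ι → F} (hw : f a w = 0) (t : F) :
    φ (w + t • a) = φ w := by
  rw [h.add w _ hw (by rw [smul_right' hf, hf.alternating, mul_zero]), h.line, smul_right' hf,
    form_comm hf w a, hw, mul_zero, add_zero, add_zero]

lemma Sieg.conj {a : ι → F} {φ : (ι → F) → F} (h : Sieg f L a φ) {g : GL ι F} (hg : g ∈ L) (hi : Iso f g) :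
    Sieg f L ((g : Matrix ι ι F) *ᵥ a) (fun w => φ (((g⁻¹ : GL ι F) : Matrix ι ι F) *ᵥ w)) := by
  have hperp : ∀ w, f ((g : Matrix ι ι F) *ᵥ a) w = 0 → f a (((g⁻¹ : GL ι F) : Matrix ι ι F) *ᵥ w) = 0 :=
    fun w hw => by rw [← hi, mulVec_inv_cancel]; exact hw
  refine ⟨fun w hw => ?_, fun w w' hw hw' => ?_, fun t => ?_⟩
  · have := Rt_mem_conj hf hg hi (h.mem _ (hperp w hw))
    rwa [mulVec_inv_cancel] at this
  · rw [mulVec_add, h.add _ _ (hperp w hw) (hperp w' hw'), hi.inv]
  · rw [mulVec_smul, inv_mulVec_cancel, h.line]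

lemma Sieg.smul {a : ι → F} {φ : (ι → F) → F} (h : Sieg f L a φ) {s : F} (hs : s ≠ 0) :
    Sieg f L (s • a) (fun w => φ (s • w) / s ^ 2) := by
  have hperp : ∀ w, f (s • a) w = 0 → f a w = 0 := fun w hw => by
    rw [smul_left' hf] at hw
    exact (mul_eq_zero.1 hw).resolve_left hs
  refine ⟨fun w hw => ?_, fun w w' hw hw' => ?_, fun t => ?_⟩
  · rw [Rt_smul hf a w (hperp w hw)]
    have h1 := h.mem (s • w) (by rw [smul_right' hf, hperp w hw, mul_zero])
    convert h1 using 2
    field_simp
  · rw [smul_add, h.add _ _ (by rw [smul_right' hf, hperp w hw, mul_zero])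
      (by rw [smul_right' hf, hperp w' hw', mul_zero]), smul_left' hf, smul_right' hf]
    field_simp
  · rw [smul_smul, smul_smul, h.line, zero_div]

variable (hL : ∀ g ∈ L, Iso f g)

include hL

omit [CharP F 2] in
lemma Orb.transl {a0 p : ι → F} (h : Orb L a0 p) {g : GL ι F} (hg : g ∈ L) :
    Orb L a0 ((g : Matrix ι ι F) *ᵥ p) := by
  obtain ⟨k, hk, s, hs, rfl⟩ := h
  exact ⟨g * k, L.mul_mem hg hk, s, hs, by rw [mulVec_smul, mul_mulVec]⟩

omit [CharP F 2] in
lemma Orb.smul {a0 p : ι → F} (h : Orb L a0 p) {t : F} (ht : t ≠ 0) : Orb L a0 (t • p) := by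
  obtain ⟨k, hk, s, hs, rfl⟩ := h
  exact ⟨k, hk, t * s, mul_ne_zero ht hs, smul_smul t s _⟩

lemma Orb.sieg {a0 p : ι → F} {φ0 : (ι → F) → F} (h0 : Sieg f L a0 φ0) (h : Orb L a0 p) :
    ∃ φ, Sieg f L p φ := by
  obtain ⟨k, hk, s, hs, rfl⟩ := h
  exact ⟨_, (h0.conj hf hk (hL k hk)).smul hf hs⟩

omit [CharP F 2] in
lemma Orb.noT {a0 p : ι → F} (hN : NoT f L a0) (h : Orb L a0 p) : ∀ c, sT f p c ∈ L → c = 0 := by
  obtain ⟨k, hk, s, hs, rfl⟩ := h
  intro c hc
  rw [← mulVec_smul] at hc
  have h1 := sT_mem_conj hf (L.inv_mem hk) (hL _ (L.inv_mem hk)) hc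
  rw [inv_mulVec_cancel, sT_smul hf] at h1
  exact (mul_eq_zero.1 (hN _ h1)).resolve_left (pow_ne_zero 2 hs)

/-- Uniqueness of the parameters at a point carrying no transvection. -/
lemma Sieg.unique {p : ι → F} (hN : ∀ c, sT f p c ∈ L → c = 0) {φ : (ι → F) → F} (h : Sieg f L p φ)
    {w : ι → F} (hw : f p w = 0) {c : F} (hc : Rt f p w c ∈ L) : c = φ w := by
  have h1 := L.mul_mem hc (h.mem w hw)
  rw [Rt_mul hf hw hw, add_vec, Rt_zero hf, hf.alternating, add_zero] at h1
  exact CharTwo.add_eq_zero.1 (hN _ h1)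

omit [CharP F 2] in
/-- Equality of parameters, without a transvection at the point. -/
lemma Orb.ne_zero {a0 p : ι → F} (ha : a0 ≠ 0) (h : Orb L a0 p) : p ≠ 0 := by
  obtain ⟨k, hk, s, hs, rfl⟩ := h
  exact smul_ne_zero hs (mulVec_ne_zero k ha)

end

/-- Perpendicular to both members of a pair. -/
def InW (f : (ι → F) → (ι → F) → F) (a b w : ι → F) : Prop := f a w = 0 ∧ f b w = 0

include hf

lemma InW.smul {a b w : ι → F} (h : InW f a b w) (t : F) : InW f a b (t • w) :=
  ⟨by rw [smul_right' hf, h.1, mul_zero], by rw [smul_right' hf, h.2, mul_zero]⟩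

lemma InW.add {a b w w' : ι → F} (h : InW f a b w) (h' : InW f a b w') : InW f a b (w + w') :=
  ⟨by rw [add_right' hf, h.1, h'.1, add_zero], by rw [add_right' hf, h.2, h'.2, add_zero]⟩

lemma InW.zero (a b : ι → F) : InW f a b 0 := ⟨zero_right' hf a, zero_right' hf b⟩

omit hf in
lemma InW.symm {a b w : ι → F} (h : InW f a b w) : InW f b a w := ⟨h.2, h.1⟩

variable [CharP F 2]

/-- The component in the perp of a hyperbolic pair. -/
def proj (f : (ι → F) → (ι → F) → F) (a b x : ι → F) : ι → F := x + f x b • a + f x a • b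

lemma proj_inW {a b : ι → F} (hab : f a b = 1) (x : ι → F) : InW f a b (proj f a b x) := by
  have hba : f b a = 1 := by rw [form_comm hf, hab]
  constructor
  · rw [proj, add_right' hf, add_right' hf, smul_right' hf, smul_right' hf, hf.alternating, hab, form_comm hf a x,
      mul_zero, mul_one, add_zero, two_mem]
  · rw [proj, add_right' hf, add_right' hf, smul_right' hf, smul_right' hf, hf.alternating, hba, form_comm hf b x,
      mul_zero, mul_one, add_zero, two_mem]

lemma proj_decomp {a b : ι → F} (x : ι → F) : x = proj f a b x + f x b • a + f x a • b := by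
  rw [proj]
  have h1 := add_vec (f x b • a)
  have h2 := add_vec (f x a • b)
  linear_combination (norm := module) -h1 - h2

lemma proj_of_inW {a b x : ι → F} (h : InW f a b x) : proj f a b x = x := by
  rw [proj, form_comm hf x b, h.2, form_comm hf x a, h.1, zero_smul, zero_smul, add_zero, add_zero]

lemma proj_add {a b : ι → F} (x y : ι → F) : proj f a b (x + y) = proj f a b x + proj f a b y := by
  rw [proj, proj, proj, add_left' hf, add_left' hf]
  module

lemma proj_smul {a b : ι → F} (t : F) (x : ι → F) : proj f a b (t • x) = t • proj f a b x := by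
  rw [proj, proj, smul_left' hf, smul_left' hf]
  module

/-- Separating functionals on the perp of a pair. -/
lemma exists_inW_pair {a b : ι → F} (hab : f a b = 1) {u : ι → F} (hu : InW f a b u) (hu0 : u ≠ 0) (A : F) :
    ∃ z, InW f a b z ∧ f u z = A := by
  obtain ⟨x, hx⟩ := (hf.nondegenerate u hu0).2
  have hp : f u (proj f a b x) = f u x := by
    rw [proj, add_right' hf, add_right' hf, smul_right' hf, smul_right' hf, form_comm hf u a, hu.1,
      form_comm hf u b, hu.2, mul_zero, mul_zero, add_zero, add_zero]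
  refine ⟨(A / f u x) • proj f a b x, (proj_inW hf hab x).smul hf _, ?_⟩
  rw [smul_right' hf, hp, div_mul_cancel₀ A hx]

lemma Rt_apply_partner {a b u : ι → F} (hab : f a b = 1) (hu : InW f a b u) (c δ : F) :
    (Rt f a u c : Matrix ι ι F) *ᵥ (b + δ • a) = b + u + (c + δ) • a := by
  rw [Rt_mulVec hf hu.1]
  simp only [add_left' hf, smul_left' hf, hf.alternating, hu.1, hu.2, form_comm hf b a, hab]
  module

lemma Rt_apply_partner' {a b u : ι → F} (hab : f a b = 1) (hu : InW f a b u) (c : F) :
    (Rt f a u c : Matrix ι ι F) *ᵥ b = b + u + c • a := by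
  have := Rt_apply_partner hf hab hu c 0
  rwa [zero_smul, add_zero, add_zero] at this

lemma Rt_fix {a u x : ι → F} (hu : f a u = 0) (hxa : f x a = 0) (hxu : f x u = 0) (c : F) :
    (Rt f a u c : Matrix ι ι F) *ᵥ x = x := by
  rw [Rt_mulVec hf hu, hxa, hxu]
  simp

/-- The parameter takes every value on the perp of a pair. -/
lemma surj [Fintype F] {a b : ι → F} (hab : f a b = 1) {φ : (ι → F) → F} (hφ : Sieg f L a φ)
    {u : ι → F} (hu : InW f a b u) (hu0 : u ≠ 0) (δ : F) : ∃ w, InW f a b w ∧ φ w = δ := by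
  classical
  obtain ⟨u', hu', huu'⟩ := exists_inW_pair hf hab hu hu0 1
  have hB : ∀ y y' : F, φ ((y + y') • u') = φ (y • u') + φ (y' • u') := fun y y' => by
    rw [add_smul, hφ.add _ _ (hu'.smul hf y).1 (hu'.smul hf y').1, smul_left' hf, smul_right' hf, hf.alternating,
      mul_zero, mul_zero, add_zero]
  obtain ⟨x, hx⟩ : ∃ x : F, Function.Injective fun y => x * y + φ (y • u') := by
    by_contra hcon
    simp only [Function.Injective, not_exists] at hcon
    have : ∀ x : F, ∃ y : F, y ≠ 0 ∧ φ (y • u') / y = x := fun x => by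
      obtain ⟨y, y', hy, hne⟩ : ∃ y y', x * y + φ (y • u') = x * y' + φ (y' • u') ∧ y ≠ y' := by
        by_contra h
        exact hcon x fun y y' e => by_contra fun hne => h ⟨y, y', e, hne⟩
      refine ⟨y + y', fun h => hne (CharTwo.add_eq_zero.1 h), ?_⟩
      rw [hB, div_eq_iff (fun h => hne (CharTwo.add_eq_zero.1 h)), ← CharTwo.add_eq_zero]
      have h2 := CharTwo.add_eq_zero.2 hy
      linear_combination h2
    choose y hy hyx using this
    have hinj : Function.Injective fun x : F => (⟨y x, hy x⟩ : {y : F // y ≠ 0}) := fun x x' e => by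
      have e' : y x = y x' := congrArg Subtype.val e
      rw [← hyx x, ← hyx x', e']
    have := Fintype.card_le_of_injective _ hinj
    simp only [ne_eq, Fintype.card_subtype_compl, Fintype.card_subtype_eq] at this
    have := Fintype.card_pos (α := F)
    omega
  obtain ⟨y, hy⟩ := (Finite.injective_iff_surjective.1 hx) (δ + φ (x • u))
  refine ⟨x • u + y • u', (hu.smul hf x).add hf (hu'.smul hf y), ?_⟩
  rw [hφ.add _ _ (hu.smul hf x).1 (hu'.smul hf y).1, smul_left' hf, smul_right' hf, huu', mul_one]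
  have h2 : φ (x • u) + φ (x • u) = 0 := two_mem
  linear_combination hy + h2

/-- The commutator of Siegel elements centred at orthogonal points `b` and `b + u`. -/
theorem perp_comm {a b u z w : ι → F} (hab : f a b = 1) (hu : InW f a b u) (hz : InW f a b z)
    (hw : InW f a b w) (huw : f u w = 0) (c d : F) :
    (Rt f b z d * Rt f (b + u) w c * (Rt f b z d)⁻¹) * Rt f (b + u) w c =
      Rt f b (f u z • w + (f w z + c * f u z) • u) (f u z ^ 2 * c) := by
  set A := f u z with hA
  set G := f w z with hG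
  have hvw : f (b + u) w = 0 := by rw [add_left' hf, hw.2, huw, add_zero]
  have hgb : (Rt f b z d : Matrix ι ι F) *ᵥ (b + u) = b + u + A • b := by
    rw [Rt_mulVec hf hz.2]
    simp only [add_left' hf, hf.alternating, hz.2, form_comm hf u b, hu.2, ← hA]
    module
  have hgw : (Rt f b z d : Matrix ι ι F) *ᵥ w = w + G • b := by
    rw [Rt_mulVec hf hz.2]
    simp only [form_comm hf w b, hw.2, ← hG]
    module
  rw [conj_Rt hf (iso_Rt hf _ _ _), hgb, hgw]
  have hub : f u b = 0 := by rw [form_comm hf]; exact hu.2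
  have hwb : f w b = 0 := by rw [form_comm hf]; exact hw.2
  have hwu : f w u = 0 := by rw [form_comm hf]; exact huw
  have h1 : f (b + u + A • b) (w + G • b) = 0 := by
    simp only [add_left' hf, add_right' hf, smul_left' hf, smul_right' hf, hf.alternating, hw.2, huw, hub]
    ring
  have h3 : f b (A • w + (G + c * A) • u) = 0 := by
    simp only [add_right' hf, smul_right' hf, hw.2, hu.2]
    ring
  refine gl_ext fun x => ?_
  rw [mul_mulVec, Rt_mulVec hf hvw, Rt_mulVec hf h1, Rt_mulVec hf h3]
  have t1 := add_vec x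
  simp only [add_left' hf, add_right' hf, smul_left' hf, smul_right' hf, hf.alternating, hw.2, hwb, huw, hwu,
    hu.2, hub]
  match_scalars <;> ring_nf <;> simp [CharTwo.two_eq_zero]

/-- Two transvections at orthogonal points give a Siegel element. -/
theorem transv_comm {a b u z : ι → F} (hab : f a b = 1) (hu : InW f a b u) (hz : InW f a b z) (c d : F) :
    (Rt f b z d * sT f (b + u) c * (Rt f b z d)⁻¹) * sT f (b + u) c =
      Rt f b ((c * f u z) • u) (c * f u z ^ 2) := by
  set A := f u z with hA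
  have hgb : (Rt f b z d : Matrix ι ι F) *ᵥ (b + u) = b + u + A • b := by
    rw [Rt_mulVec hf hz.2]
    simp only [add_left' hf, hf.alternating, hz.2, form_comm hf u b, hu.2, ← hA]
    module
  rw [conj_sT_iso hf (iso_Rt hf _ _ _), hgb]
  have hub : f u b = 0 := by rw [form_comm hf]; exact hu.2
  refine gl_ext fun x => ?_
  rw [mul_mulVec, sT_mulVec hf, sT_mulVec hf, Rt_mulVec hf (by rw [smul_right' hf, hu.2, mul_zero])]
  simp only [add_left' hf, add_right' hf, smul_left' hf, smul_right' hf, hf.alternating, hub, hu.2]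
  match_scalars <;> ring_nf <;> simp [CharTwo.two_eq_zero]

end CfsgLib.SpTwoOver
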