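/-
A complement to the transvections in the 2-core of a vector stabiliser gives the Siegel parameters.
-/
import Cfsg.Agent.Lib.SpTwoOver.Siegel
import Cfsg.Agent.Lib.Cores.Basic

set_option autoImplicit false
set_option linter.all false

namespace CfsgLib.SpTwoOver

open Matrix CfsgLib.Transvec CfsgLib.SpFour
open scoped MatrixGroups

variable {ι : Type} [Fintype ι] [DecidableEq ι] {F : Type*} [Field F] [CharP F 2] [Fintype F]
  {f : (ι → F) → (ι → F) → F} (hf : Cfsg.Geo.IsSymplecticForm f)

include hf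

/-- A 2-group of isometries fixing `a` and normalised by the stabiliser of `a` is trivial on `a⊥/a`. -/
theorem perp_trivial (h4 : 4 ≤ Fintype.card ι) {a : ι → F} (ha : a ≠ 0) {N : Subgroup (GL ι F)} (hN : IsPGroup 2 N)
    (hfix : ∀ k ∈ N, Iso f k ∧ (k : Matrix ι ι F) *ᵥ a = a)
    (hnorm : ∀ g : GL ι F, Iso f g → (g : Matrix ι ι F) *ᵥ a = a → ∀ k ∈ N, g * k * g⁻¹ ∈ N)
    {k : GL ι F} (hk : k ∈ N) {x : ι → F} (hx : f a x = 0) :
    (k : Matrix ι ι F) *ᵥ x - x ∈ Submodule.span F {a} := by
  classical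
  set A := Submodule.span F ({a} : Set (ι → F)) with hA
  haveI : Fact (Nat.Prime 2) := ⟨Nat.prime_two⟩
  let P : Submodule F (ι → F) := (toBilin hf.bilinear).orthogonal A
  have hP : ∀ x, x ∈ P ↔ f a x = 0 := fun x => by
    rw [LinearMap.BilinForm.mem_orthogonal_iff]
    refine ⟨fun h => h a (Submodule.mem_span_singleton_self a), fun h v hv => ?_⟩
    obtain ⟨t, rfl⟩ := Submodule.mem_span_singleton.1 hv
    show f (t • a) x = 0
    rw [smul_left' hf, h, mul_zero]
  let PQ : Submodule F ((ι → F) ⧸ A) := P.map A.mkQ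
  have hkP : ∀ k ∈ N, ∀ x ∈ P, (k : Matrix ι ι F) *ᵥ x ∈ P := fun k hk x hx => by
    rw [hP] at hx ⊢
    have := (hfix k hk).1 a x
    rw [(hfix k hk).2, hx] at this
    exact this
  have hkA : ∀ k ∈ N, A ≤ A.comap (Matrix.toLin' (k : Matrix ι ι F)) := fun k hk => by
    rw [hA, Submodule.span_le, Set.singleton_subset_iff]
    show Matrix.toLin' (k : Matrix ι ι F) a ∈ Submodule.span F {a}
    rw [Matrix.toLin'_apply, (hfix k hk).2]
    exact Submodule.mem_span_singleton_self a
  letI act : MulAction N PQ :=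
    { smul := fun k p => ⟨A.mapQ A (Matrix.toLin' ((k : GL ι F) : Matrix ι ι F)) (hkA k k.2) p.1, by
        obtain ⟨p, q, hq, rfl⟩ := p
        exact ⟨_, hkP k k.2 q hq, rfl⟩⟩
      one_smul := fun p => by
        obtain ⟨p, q, hq, rfl⟩ := p
        refine Subtype.ext ?_
        show A.mapQ A (Matrix.toLin' (((1 : N) : GL ι F) : Matrix ι ι F)) _ (A.mkQ q) = A.mkQ q
        simp
      mul_smul := fun g h p => by
        obtain ⟨p, q, hq, rfl⟩ := p
        refine Subtype.ext ?_
        show A.mkQ (Matrix.toLin' (((g * h : N) : GL ι F) : Matrix ι ι F) q) =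
          A.mkQ (Matrix.toLin' ((g : GL ι F) : Matrix ι ι F) (Matrix.toLin' ((h : GL ι F) : Matrix ι ι F) q))
        simp [Matrix.toLin'_apply, Matrix.mulVec_mulVec] }
  have hdim : 1 ≤ Module.finrank F PQ := by
    by_contra h
    have h0 : PQ = ⊥ := Submodule.finrank_eq_zero.1 (by omega)
    have hle : P ≤ A := fun x hx => by
      have : A.mkQ x ∈ PQ := ⟨x, hx, rfl⟩
      rw [h0, Submodule.mem_bot] at this
      rwa [Submodule.mkQ_apply, Submodule.Quotient.mk_eq_zero] at this
    have h2 : Module.finrank F P = _ := LinearMap.BilinForm.finrank_orthogonal (bilin_nondegenerate hf) A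
    have h3 := Submodule.finrank_mono hle
    rw [finrank_span_singleton ha, Module.finrank_fintype_fun_eq_card] at *
    omega
  have hp : 2 ∣ Nat.card PQ := by
    rw [Module.natCard_eq_pow_finrank (K := F)]
    obtain ⟨m, -, hm⟩ := FiniteField.card F 2
    rw [Nat.card_eq_fintype_card, hm]
    exact dvd_pow (dvd_pow_self 2 m.ne_zero) (by omega)
  have h0fix : (0 : PQ) ∈ MulAction.fixedPoints N PQ := fun k => Subtype.ext (map_zero _)
  obtain ⟨⟨p, q, hq, rfl⟩, hbfix, hb0⟩ := hN.exists_fixed_point_of_prime_dvd_card_of_fixed_point PQ hp h0fix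
  have hqA : q ∉ A := fun h => hb0 (Subtype.ext (by
    show (0 : (ι → F) ⧸ A) = A.mkQ q
    rw [Submodule.mkQ_apply, (Submodule.Quotient.mk_eq_zero A).2 h]))
  by_cases hxA : x ∈ A
  · obtain ⟨t, rfl⟩ := Submodule.mem_span_singleton.1 hxA
    rw [mulVec_smul, (hfix k hk).2, sub_self]
    exact Submodule.zero_mem _
  obtain ⟨g, -, hgi, hgq, hge⟩ := exists_move_fix hf (M := (⊤ : Subgroup (GL ι F)))
    (fun _ _ => Subgroup.mem_top _) A hqA hxA (fun e he => by
      obtain ⟨t, rfl⟩ := Submodule.mem_span_singleton.1 he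
      rw [smul_left' hf, smul_left' hf, (hP q).1 hq, hx])
  have hga : (g : Matrix ι ι F) *ᵥ a = a := hge a (Submodule.mem_span_singleton_self a)
  have hk' : g⁻¹ * k * g ∈ N := by
    have := hnorm g⁻¹ hgi.inv (by conv_lhs => rw [← hga, inv_mulVec_cancel]) k hk
    rwa [inv_inv] at this
  have h1 : ((g⁻¹ * k * g : GL ι F) : Matrix ι ι F) *ᵥ q - q ∈ A := by
    have := congrArg Subtype.val (hbfix ⟨_, hk'⟩)
    change A.mkQ (Matrix.toLin' ((g⁻¹ * k * g : GL ι F) : Matrix ι ι F) q) = A.mkQ q at this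
    rwa [Submodule.mkQ_apply, Submodule.mkQ_apply, Submodule.Quotient.eq, Matrix.toLin'_apply] at this
  obtain ⟨t, ht⟩ := Submodule.mem_span_singleton.1 h1
  refine Submodule.mem_span_singleton.2 ⟨t, ?_⟩
  have e : (g : Matrix ι ι F) *ᵥ (((g⁻¹ * k * g : GL ι F) : Matrix ι ι F) *ᵥ q) = (k : Matrix ι ι F) *ᵥ x := by
    rw [← mul_mulVec, ← mul_assoc, mul_inv_cancel_left, mul_mulVec, hgq]
  rw [← e]
  conv_rhs => rw [← hgq, ← Matrix.mulVec_sub, ← ht, mulVec_smul, hga]

/-- Such an element is a Siegel element. -/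
theorem exists_Rt {a b : ι → F} (hab : f a b = 1) {k : GL ι F} (hi : Iso f k) (hka : (k : Matrix ι ι F) *ᵥ a = a)
    (htr : ∀ x, f a x = 0 → (k : Matrix ι ι F) *ᵥ x - x ∈ Submodule.span F {a}) :
    ∃ w c, InW f a b w ∧ k = Rt f a w c := by
  have hba : f b a = 1 := by rw [form_comm hf, hab]
  obtain ⟨y, hy⟩ : ∃ y, y = (k : Matrix ι ι F) *ᵥ b + b := ⟨_, rfl⟩
  have hay : f a y = 0 := by
    have := hi a b
    rw [hka] at this
    rw [hy, add_right' hf, this, hab, two_mem]
  refine ⟨y + f b y • a, f b y, ⟨?_, ?_⟩, gl_ext fun x => ?_⟩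
  · rw [add_right' hf, smul_right' hf, hf.alternating, hay, mul_zero, add_zero]
  · rw [add_right' hf, smul_right' hf, hba, mul_one, two_mem]
  have hperp : ∀ x, f a x = 0 → (k : Matrix ι ι F) *ᵥ x = x + f x y • a := fun x hx => by
    obtain ⟨t, ht⟩ := Submodule.mem_span_singleton.1 (htr x hx)
    have e : (k : Matrix ι ι F) *ᵥ x = x + t • a := by rw [ht, add_sub_cancel]
    have hkb : (k : Matrix ι ι F) *ᵥ b = b + y := by
      rw [hy, add_comm _ b, ← add_assoc, add_vec, zero_add]
    have h1 := hi x b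
    rw [e, hkb, add_left' hf, add_right' hf, add_right' hf, smul_left' hf, smul_left' hf, hab, hay, mul_one,
      mul_zero, add_zero] at h1
    rw [e, show t = f x y by linear_combination h1 - two_mem (a := f x y)]
  rw [Rt_mulVec hf (by rw [add_right' hf, smul_right' hf, hf.alternating, hay, mul_zero, add_zero])]
  set t := f x a with ht
  have hx' : f a (x + t • b) = 0 := by
    rw [add_right' hf, smul_right' hf, hab, mul_one, form_comm hf a x, ← ht, two_mem]
  have e : x = (x + t • b) + t • b := by rw [add_assoc, add_vec, add_zero]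
  conv_lhs => rw [e, mulVec_add, mulVec_smul, hperp _ hx']
  rw [show (k : Matrix ι ι F) *ᵥ b = b + y by rw [hy, add_comm _ b, ← add_assoc, add_vec, zero_add]]
  rw [add_left' hf, smul_left' hf, add_right' hf, smul_right' hf, ← ht]
  have h1 := add_vec (t • b)
  have h2 := add_vec ((f b y * t) • a)
  linear_combination (norm := module) h1 - h2

/-- The parameters. -/
theorem exists_sieg (h4 : 4 ≤ Fintype.card ι) {a : ι → F} (ha : a ≠ 0) {X L : Subgroup (GL ι F)} (hXL : X ≤ L)
    (hX : ∀ x ∈ X, ∀ b, f a b = 1 → ∃ w c, InW f a b w ∧ x = Rt f a w c)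
    (hcard : Nat.card X = Fintype.card F ^ (Fintype.card ι - 2))
    (hntv : ∀ x ∈ X, ((x : Matrix ι ι F) - 1).rank ≠ 1) : ∃ φ, Sieg f L a φ := by
  classical
  obtain ⟨b', hb'⟩ := (hf.nondegenerate a ha).2
  obtain ⟨b, hab⟩ : ∃ b, f a b = 1 := ⟨(f a b')⁻¹ • b', by rw [smul_right' hf, inv_mul_cancel₀ hb']⟩
  choose w c hw hk using fun x : X => hX x x.2 b hab
  have huniq : ∀ {v c c'}, f a v = 0 → Rt f a v c ∈ X → Rt f a v c' ∈ X → c = c' := by
    intro v c c' hv h h'
    have h1 := X.mul_mem h h'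
    rw [Rt_mul hf hv hv, add_vec, Rt_zero hf, hf.alternating, add_zero] at h1
    by_contra hne
    refine hntv _ h1 ?_
    have hd : c + c' ≠ 0 := fun h => hne (CharTwo.add_eq_zero.1 h)
    have hr : LinearMap.range ((sT f a (c + c') : Matrix ι ι F) - 1).mulVecLin = Submodule.span F {a} := by
      refine le_antisymm ?_ ?_
      · rintro _ ⟨x, rfl⟩
        rw [Matrix.mulVecLin_apply, Matrix.sub_mulVec, Matrix.one_mulVec, sT_mulVec hf, add_sub_cancel_left]
        exact Submodule.smul_mem _ _ (Submodule.mem_span_singleton_self a)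
      · rw [Submodule.span_le, Set.singleton_subset_iff]
        refine ⟨(c + c')⁻¹ • b, ?_⟩
        rw [Matrix.mulVecLin_apply, Matrix.sub_mulVec, Matrix.one_mulVec, sT_mulVec hf, add_sub_cancel_left,
          smul_left' hf, form_comm hf b a, hab, mul_one, mul_inv_cancel₀ hd, one_smul]
    rw [Matrix.rank, hr, finrank_span_singleton ha]
  let W : Submodule F (ι → F) := (toBilin hf.bilinear).orthogonal (Submodule.span F ({a, b} : Set (ι → F)))
  have hW : ∀ v, v ∈ W ↔ InW f a b v := fun v => by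
    rw [LinearMap.BilinForm.mem_orthogonal_iff]
    refine ⟨fun h => ⟨h a (Submodule.subset_span (by simp)), h b (Submodule.subset_span (by simp))⟩, fun h z hz => ?_⟩
    obtain ⟨p, q, rfl⟩ := Submodule.mem_span_pair.1 hz
    show f (p • a + q • b) v = 0
    rw [add_left' hf, smul_left' hf, smul_left' hf, h.1, h.2, mul_zero, mul_zero, add_zero]
  have hWcard : Nat.card W = Fintype.card F ^ (Fintype.card ι - 2) := by
    rw [Module.natCard_eq_pow_finrank (K := F), Nat.card_eq_fintype_card]
    congr 1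
    have hE : Module.finrank F (Submodule.span F ({a, b} : Set (ι → F))) = 2 := by
      have hli : LinearIndependent F ![a, b] := (LinearIndependent.pair_iff' ha).2 fun t ht => by
        rw [← ht, smul_right' hf, hf.alternating, mul_zero] at hab
        exact zero_ne_one hab
      have := finrank_span_eq_card hli
      rwa [Matrix.range_cons, Matrix.range_cons, Matrix.range_empty, Set.union_empty, Set.singleton_union,
        Fintype.card_fin] at this
    have h2 := LinearMap.BilinForm.finrank_orthogonal (bilin_nondegenerate hf)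
      (Submodule.span F ({a, b} : Set (ι → F)))
    rw [Module.finrank_fintype_fun_eq_card, hE] at h2
    exact h2
  have hbij : Function.Bijective fun x : X => (⟨w x, (hW _).2 (hw x)⟩ : W) := by
    refine (Nat.bijective_iff_injective_and_card _).2 ⟨fun x y e => ?_, hcard.trans hWcard.symm⟩
    have e' : w x = w y := congrArg Subtype.val e
    refine Subtype.ext ?_
    rw [hk x, hk y, e', huniq (hw y).1 (c := c x) (c' := c y) (e' ▸ hk x ▸ x.2) (hk y ▸ y.2)]
  obtain ⟨inv, -, hinv⟩ := Function.bijective_iff_has_inverse.1 hbij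
  let φ : (ι → F) → F := fun v => c (inv ⟨proj f a b v, (hW _).2 (proj_inW hf hab v)⟩)
  have hmem : ∀ v, f a v = 0 → Rt f a v (φ v) ∈ X := by
    intro v hv
    set x := inv ⟨proj f a b v, (hW _).2 (proj_inW hf hab v)⟩ with hx
    have hwx : w x = proj f a b v := congrArg Subtype.val (hinv ⟨proj f a b v, (hW _).2 (proj_inW hf hab v)⟩)
    have e : Rt f a v (φ v) = Rt f a (w x) (c x) := by
      refine gl_ext fun z => ?_
      rw [Rt_mulVec hf hv, Rt_mulVec hf (hw x).1, hwx]
      show _ = z + f z a • proj f a b v + f z (proj f a b v) • a + (c x * f z a) • a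
      rw [proj, form_comm hf v a, hv, zero_smul, add_zero, add_right' hf, smul_right' hf]
      have h2 := add_vec ((f v b * f z a) • a)
      linear_combination (norm := module) -h2
    rw [e, ← hk x]
    exact x.2
  refine ⟨φ, fun v hv => hXL (hmem v hv), fun v v' hv hv' => ?_, fun t => ?_⟩
  · have h1 := X.mul_mem (hmem v hv) (hmem v' hv')
    rw [Rt_mul hf hv hv'] at h1
    exact huniq (by rw [add_right' hf, hv, hv', add_zero])
      (hmem _ (by rw [add_right' hf, hv, hv', add_zero])) h1
  · have hta : f a (t • a) = 0 := by rw [smul_right' hf, hf.alternating, mul_zero]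
    have e : Rt f a (t • a) 0 = 1 := gl_ext fun z => by
      rw [Rt_mulVec hf hta, smul_right' hf, zero_mul, zero_smul, add_zero]
      rw [show ((1 : GL ι F) : Matrix ι ι F) *ᵥ z = z by simp, smul_smul, mul_comm (f z a) t, add_assoc, add_vec,
        add_zero]
    exact huniq hta (hmem _ hta) (e ▸ X.one_mem)

end CfsgLib.SpTwoOver
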