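/-
A transvection at one point of the orbit forces all transvections.
-/
import Cfsg.Agent.Lib.SpTwoOver.Siegel

set_option autoImplicit false
set_option linter.all false

namespace CfsgLib.SpTwoOver

open Matrix CfsgLib.Transvec CfsgLib.SpFour
open scoped MatrixGroups

variable {ι : Type} [Fintype ι] [DecidableEq ι] {F : Type*} [Field F]

/-- The standing hypotheses. -/
structure Hyp (f : (ι → F) → (ι → F) → F) (L : Subgroup (GL ι F)) (a0 : ι → F) : Prop where
  symp : Cfsg.Geo.IsSymplecticForm f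
  ne : a0 ≠ 0
  iso : ∀ g ∈ L, Iso f g
  sieg : ∃ φ, Sieg f L a0 φ
  irr : ∀ W : Submodule F (ι → F), (∀ g ∈ L, ∀ w ∈ W, (g : Matrix ι ι F) *ᵥ w ∈ W) → W = ⊥ ∨ W = ⊤
  dim : 4 ≤ Fintype.card ι

variable {f : (ι → F) → (ι → F) → F} {L : Subgroup (GL ι F)} {a0 : ι → F} (H : Hyp f L a0)

include H

lemma Hyp.orb_self : Orb L a0 a0 := ⟨1, L.one_mem, 1, one_ne_zero, by simp⟩

lemma Hyp.exists_pair : ∃ b, Orb L a0 b ∧ f a0 b = 1 := by
  have hf := H.symp
  by_contra hcon
  have hall : ∀ g ∈ L, f a0 ((g : Matrix ι ι F) *ᵥ a0) = 0 := fun g hg => by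
    by_contra hne
    exact hcon ⟨(f a0 ((g : Matrix ι ι F) *ᵥ a0))⁻¹ • ((g : Matrix ι ι F) *ᵥ a0),
      ⟨g, hg, _, inv_ne_zero hne, rfl⟩, by rw [smul_right' hf, inv_mul_cancel₀ hne]⟩
  set W := Submodule.span F {x | ∃ g ∈ L, x = (g : Matrix ι ι F) *ᵥ a0} with hW
  have hinv : ∀ g ∈ L, ∀ w ∈ W, (g : Matrix ι ι F) *ᵥ w ∈ W := by
    intro g hg w hw
    induction hw using Submodule.span_induction with
    | mem x hx =>
      obtain ⟨k, hk, rfl⟩ := hx
      exact Submodule.subset_span ⟨g * k, L.mul_mem hg hk, (mul_mulVec g k a0).symm⟩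
    | zero => rw [mulVec_zero]; exact W.zero_mem
    | add x y _ _ hx hy => rw [mulVec_add]; exact W.add_mem hx hy
    | smul c x _ hx => rw [mulVec_smul]; exact W.smul_mem c hx
  rcases H.irr W hinv with h | h
  · have : a0 ∈ W := Submodule.subset_span ⟨1, L.one_mem, by simp⟩
    rw [h, Submodule.mem_bot] at this
    exact H.ne this
  · obtain ⟨x, hx⟩ := (hf.nondegenerate a0 H.ne).2
    have hzero : ∀ w ∈ W, f a0 w = 0 := fun w hw => by
      induction hw using Submodule.span_induction with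
      | mem x hx => obtain ⟨k, hk, rfl⟩ := hx; exact hall k hk
      | zero => exact zero_right' hf _
      | add x y _ _ hx hy => rw [add_right' hf, hx, hy, add_zero]
      | smul c x _ hx => rw [smul_right' hf, hx, mul_zero]
    have h1 : f a0 x = 0 := hzero x (h ▸ Submodule.mem_top)
    exact hx h1

lemma Hyp.exists_inW {a b : ι → F} : ∃ u, InW f a b u ∧ u ≠ 0 := by
  have hf := H.symp
  let E := Submodule.span F ({a, b} : Set (ι → F))
  have h1 : Module.finrank F E ≤ 2 := by
    classical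
    refine le_trans (finrank_span_le_card _) ?_
    rw [Set.toFinset_insert, Set.toFinset_singleton]
    exact Finset.card_le_two
  have h2 := LinearMap.BilinForm.finrank_orthogonal (bilin_nondegenerate hf) E
  rw [Module.finrank_fintype_fun_eq_card] at h2
  have h3 : (toBilin hf.bilinear).orthogonal E ≠ ⊥ := fun h => by
    rw [h, finrank_bot] at h2
    have := H.dim
    omega
  obtain ⟨u, hu, hu0⟩ := Submodule.exists_mem_ne_zero_of_ne_bot h3
  exact ⟨u, ⟨LinearMap.BilinForm.mem_orthogonal_iff.mp hu a (Submodule.subset_span (by simp)),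
    LinearMap.BilinForm.mem_orthogonal_iff.mp hu b (Submodule.subset_span (by simp))⟩, hu0⟩

variable [CharP F 2] [Fintype F]

/-- A transvection at `a0` gives all transvections. -/
theorem Hyp.full_of_transvection {d : F} (hd0 : d ≠ 0) (hd : sT f a0 d ∈ L) : ∀ x, Full f L x := by
  have hf := H.symp
  have hL := H.iso
  obtain ⟨φ, hφ⟩ := H.sieg
  obtain ⟨b, hbo, hab⟩ := H.exists_pair
  obtain ⟨ψ, hψ⟩ := hbo.sieg hf hL hφ
  obtain ⟨g0, hg0, s0, hs0, hb⟩ := hbo
  obtain ⟨e, he0, he⟩ : ∃ e, e ≠ 0 ∧ sT f b e ∈ L := by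
    refine ⟨d / s0 ^ 2, div_ne_zero hd0 (pow_ne_zero 2 hs0), ?_⟩
    rw [hb, sT_smul hf, mul_div_cancel₀ d (pow_ne_zero 2 hs0)]
    exact sT_mem_conj hf hg0 (hL _ hg0) hd
  have hba : f b a0 = 1 := by rw [form_comm hf, hab]
  obtain ⟨u0, hu0, hu00⟩ := H.exists_inW (a := a0) (b := b)
  obtain ⟨u, hu, hφu⟩ := surj hf hab hφ hu0 hu00 d
  have hune : u ≠ 0 := fun h => hd0 (by rw [← hφu, h, hφ.zero hf])
  set k := Rt f a0 u d * sT f a0 d with hk
  have hkL : k ∈ L := L.mul_mem (hφu ▸ hφ.mem u hu.1) hd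
  have hkb : (k : Matrix ι ι F) *ᵥ b = b + u := by
    rw [hk, mul_mulVec, sT_mulVec hf, hba, mul_one, Rt_apply_partner hf hab hu, two_mem, zero_smul, add_zero]
  have hkt : ∀ t : F, ((k⁻¹ : GL ι F) : Matrix ι ι F) *ᵥ (t • u) = t • u := fun t => by
    have hta : f (t • u) a0 = 0 := by rw [smul_left' hf, form_comm hf u, hu.1, mul_zero]
    have h1 : (k : Matrix ι ι F) *ᵥ (t • u) = t • u := by
      rw [hk, mul_mulVec, sT_fix hf hta, Rt_fix hf hu.1 hta (by rw [smul_left' hf, hf.alternating, mul_zero])]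
    conv_lhs => rw [← h1]
    rw [inv_mulVec_cancel]
  -- the transvections at `b`
  have F1 : ∀ d', sT f b d' ∈ L → ∀ A : F, sT f b (d' * A ^ 2 + ψ ((d' * A) • u)) ∈ L := by
    intro d' hd' A
    obtain ⟨z, hz, huz⟩ := exists_inW_pair hf hab hu hune A
    have hv : sT f (b + u) d' ∈ L := by rw [← hkb]; exact sT_mem_conj hf hkL (hL _ hkL) hd'
    have hz' := hψ.mem z hz.2
    have h1 : Rt f b ((d' * A) • u) (d' * A ^ 2) ∈ L := by
      rw [← huz, ← transv_comm hf hab hu hz d' (ψ z)]
      exact L.mul_mem (L.mul_mem (L.mul_mem hz' hv) (L.inv_mem hz')) hv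
    have hbu : f b ((d' * A) • u) = 0 := (hu.smul hf _).2
    have h2 := L.mul_mem h1 (hψ.mem _ hbu)
    rwa [Rt_mul hf hbu hbu, add_vec, Rt_zero hf, hf.alternating, add_zero] at h2
  have P2 : ∀ t A : F, sT f b (ψ ((A * ψ (t • u)) • u) + A ^ 2 * ψ (t • u)) ∈ L := by
    intro t A
    obtain ⟨z, hz, huz⟩ := exists_inW_pair hf hab hu hune A
    have hχ := hψ.conj hf hkL (hL _ hkL)
    rw [hkb] at hχ
    set w := t • u with hw
    have hww : InW f a0 b w := hu.smul hf t
    have huw : f u w = 0 := by rw [hw, smul_right' hf, hf.alternating, mul_zero]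
    have hv := hχ.mem w (by rw [add_left' hf, hww.2, huw, add_zero])
    rw [hw, hkt, ← hw] at hv
    have hz' := hψ.mem z hz.2
    have h1 := L.mul_mem (L.mul_mem (L.mul_mem hz' hv) (L.inv_mem hz')) hv
    rw [perp_comm hf hab hu hz hww huw, huz] at h1
    have e1 : A • w + (f w z + ψ w * A) • u = (A * ψ w) • u := by
      rw [hw, smul_left' hf, huz, smul_smul, ← add_smul]
      congr 1
      have := two_mem (a := A * t)
      linear_combination this
    rw [e1] at h1
    have hbu : f b ((A * ψ w) • u) = 0 := (hu.smul hf _).2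
    have h2 := L.mul_mem h1 (hψ.mem _ hbu)
    rw [Rt_mul hf hbu hbu, add_vec, Rt_zero hf, hf.alternating, add_zero] at h2
    rwa [add_comm]
  have hsq : ∀ x : F, ∃ r, r ^ 2 = x := fun x => by
    obtain ⟨r, hr⟩ := FiniteField.isSquare_of_char_two (ringChar.eq F 2) x
    exact ⟨r, by rw [sq, ← hr]⟩
  have hadd : ∀ c c', sT f b c ∈ L → sT f b c' ∈ L → sT f b (c + c') ∈ L := fun c c' h h' => by
    rw [← sT_mul hf]; exact L.mul_mem h h'
  have hcoef : ∀ γ : F, γ ≠ 0 → (∀ A, sT f b (γ * A ^ 2) ∈ L) → Full f L b := fun γ hγ h c => by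
    obtain ⟨r, hr⟩ := hsq (c / γ)
    have := h r
    rwa [hr, mul_div_cancel₀ c hγ] at this
  have hfullb : Full f L b := by
    by_cases hall : ∀ t : F, sT f b (ψ (t • u)) ∈ L
    · refine hcoef e he0 fun A => ?_
      have := hadd _ _ (F1 e he A) (hall (e * A))
      rwa [add_assoc, two_mem, add_zero] at this
    · simp only [not_forall] at hall
      obtain ⟨t, ht⟩ := hall
      set c := ψ (t • u) with hc
      have hc0 : c ≠ 0 := fun h => ht (by rw [h, sT_zero hf]; exact L.one_mem)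
      have hce : c + e ≠ 0 := fun h => ht (by rw [CharTwo.add_eq_zero.1 h]; exact he)
      refine hcoef (c * (c + e) / e) (div_ne_zero (mul_ne_zero hc0 hce) he0) fun A => ?_
      have h1 := F1 e he (A * c / e)
      have h2 := P2 t A
      rw [← hc] at h2
      rw [mul_div_cancel₀ (A * c) he0] at h1
      have h3 := hadd _ _ h1 h2
      convert h3 using 2
      set S := ψ ((A * c) • u)
      have h4 := two_mem (a := S)
      field_simp
      linear_combination (-e) * h4
  have hfulla : Full f L a0 := fun c => by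
    have h1 := hfullb (c / s0 ^ 2)
    rw [hb, sT_smul hf, mul_div_cancel₀ c (pow_ne_zero 2 hs0)] at h1
    have := sT_mem_conj hf (L.inv_mem hg0) (hL _ (L.inv_mem hg0)) h1
    rwa [inv_mulVec_cancel] at this
  -- closing up
  have hline : ∀ t : F, Full f L (b + t • a0) := fun t =>
    full_add_smul hf hfullb hfulla (by rw [hba]; exact one_ne_zero) t
  have hplane : ∀ w, InW f a0 b w → ∀ t : F, Full f L (b + w + t • a0) := by
    intro w hw t
    have := full_conj hf (hφ.mem w hw.1) (hL _ (hφ.mem w hw.1)) (hline (φ w + t))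
    rwa [Rt_apply_partner hf hab hw, ← add_assoc, two_mem, zero_add] at this
  have hoff : ∀ x, f x a0 ≠ 0 → Full f L x := by
    intro x hx
    have := full_smul hf (hplane ((f x a0)⁻¹ • proj f a0 b x) ((proj_inW hf hab x).smul hf _)
      ((f x a0)⁻¹ * f x b)) (f x a0)
    convert this using 1
    rw [smul_add, smul_add, smul_smul, smul_smul, ← mul_assoc, mul_inv_cancel₀ hx, one_mul, one_smul]
    conv_lhs => rw [proj_decomp hf (a := a0) (b := b) x]
    abel
  intro x
  by_cases hx : f x a0 = 0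
  · by_cases hx0 : x = 0
    · rw [hx0]; exact full_zero hf
    obtain ⟨y, -, hy1, hy2⟩ := exists_avoid (⊤ : Submodule F (ι → F)) (φ := fun y => f y a0) (ψ := fun y => f y x)
      (fun p q => add_left' hf p q a0) (fun p q => add_left' hf p q x)
      ⟨b, trivial, by rw [hba]; exact one_ne_zero⟩
      (by obtain ⟨z, hz⟩ := (hf.nondegenerate x hx0).1; exact ⟨z, trivial, hz⟩)
    have hxy : f (x + y) a0 ≠ 0 := by rw [add_left' hf, hx, zero_add]; exact hy1
    have := full_add_smul hf (hoff _ hxy) (hoff y hy1)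
      (by rw [add_left' hf, hf.alternating, add_zero, form_comm hf]; exact hy2) 1
    rwa [one_smul, add_assoc, add_vec, add_zero] at this
  · exact hoff x hx

end CfsgLib.SpTwoOver
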