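/-
Without transvections the parameters at two non-perpendicular points form one quadratic form.
-/
import Cfsg.Agent.Lib.SpTwoOver.Full

set_option autoImplicit false
set_option linter.all false

namespace CfsgLib.SpTwoOver

open Matrix CfsgLib.Transvec CfsgLib.SpFour
open scoped MatrixGroups

variable {ι : Type} [Fintype ι] [DecidableEq ι] {F : Type*} [Field F] [CharP F 2] [Fintype F]
  {f : (ι → F) → (ι → F) → F} {L : Subgroup (GL ι F)} {a0 : ι → F}
  (H : Hyp f L a0) (hN : NoT f L a0) (hbig : 2 < Fintype.card F ∨ 4 < Fintype.card ι)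

include H hN

lemma perp_P2 {a b u : ι → F} (hab : f a b = 1) (hu : InW f a b u) (hu0 : u ≠ 0) (hb : Orb L a0 b)
    {ψ χ : (ι → F) → F} (hψ : Sieg f L b ψ) (hχ : Sieg f L (b + u) χ) (t A : F) :
    ψ ((A * χ (t • u)) • u) = A ^ 2 * χ (t • u) := by
  have hf := H.symp
  obtain ⟨z, hz, huz⟩ := exists_inW_pair hf hab hu hu0 A
  set w := t • u with hw
  have hww : InW f a b w := hu.smul hf t
  have huw : f u w = 0 := by rw [hw, smul_right' hf, hf.alternating, mul_zero]
  have hv := hχ.mem w (by rw [add_left' hf, hww.2, huw, add_zero])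
  have hz' := hψ.mem z hz.2
  have h1 := L.mul_mem (L.mul_mem (L.mul_mem hz' hv) (L.inv_mem hz')) hv
  rw [perp_comm hf hab hu hz hww huw, huz] at h1
  have e1 : A • w + (f w z + χ w * A) • u = (A * χ w) • u := by
    rw [hw, smul_left' hf, huz, smul_smul, ← add_smul]
    congr 1
    have := two_mem (a := A * t)
    linear_combination this
  rw [e1] at h1
  exact (Sieg.unique hf H.iso (hb.noT hf H.iso hN) hψ (hu.smul hf _).2 h1).symm

include hbig

/-- Two perpendicular points of the orbit. -/
theorem perp_zero {a b u : ι → F} (hab : f a b = 1) (hu : InW f a b u) (hu0 : u ≠ 0) (hb : Orb L a0 b)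
    (hv : Orb L a0 (b + u)) {ψ : (ι → F) → F} (hψ : Sieg f L b ψ) (s : F) : ψ (s • u) = 0 := by
  have hf := H.symp
  obtain ⟨φ0, h0⟩ := H.sieg
  obtain ⟨χ, hχ⟩ := hv.sieg hf H.iso h0
  by_cases hwide : ∃ w, InW f a b w ∧ f u w = 0 ∧ w ∉ Submodule.span F {u}
  · obtain ⟨w, hw, huw, hwu⟩ := hwide
    obtain ⟨x, hx, hxw⟩ := exists_perp_ne hf hwu
    set z0 := proj f a b x with hz0
    have hpr : ∀ y, InW f a b y → f y z0 = f y x := fun y hy => by
      rw [hz0, proj, add_right' hf, add_right' hf, smul_right' hf, smul_right' hf, form_comm hf y a, hy.1,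
        form_comm hf y b, hy.2, mul_zero, mul_zero, add_zero, add_zero]
    have hwz : f w z0 ≠ 0 := by rw [hpr w hw, form_comm hf]; exact hxw
    set z := (s / f w z0) • z0 with hz
    have hzW : InW f a b z := (proj_inW hf hab x).smul hf _
    have huz : f u z = 0 := by
      rw [hz, smul_right' hf, hpr u hu, form_comm hf u x, hx u (Submodule.mem_span_singleton_self u), mul_zero]
    have hwz' : f w z = s := by rw [hz, smul_right' hf, div_mul_cancel₀ s hwz]
    have hv' := hχ.mem w (by rw [add_left' hf, hw.2, huw, add_zero])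
    have hz' := hψ.mem z hzW.2
    have h1 := L.mul_mem (L.mul_mem (L.mul_mem hz' hv') (L.inv_mem hz')) hv'
    rw [perp_comm hf hab hu hzW hw huw, huz, hwz', zero_smul, zero_add, mul_zero, add_zero,
      zero_pow two_ne_zero, zero_mul] at h1
    exact (Sieg.unique hf H.iso (hb.noT hf H.iso hN) hψ (hu.smul hf _).2 h1).symm
  · have hq : 2 < Fintype.card F := by
      refine hbig.resolve_right fun h4 => hwide ?_
      classical
      let E := Submodule.span F ({a, b, u} : Set (ι → F))
      have h1 : Module.finrank F E ≤ 3 := by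
        refine le_trans (finrank_span_le_card _) ?_
        rw [Set.toFinset_insert, Set.toFinset_insert, Set.toFinset_singleton]
        exact Finset.card_le_three
      have h2 := LinearMap.BilinForm.finrank_orthogonal (bilin_nondegenerate hf) E
      rw [Module.finrank_fintype_fun_eq_card] at h2
      obtain ⟨w, hw, hwu⟩ : ∃ w ∈ (toBilin hf.bilinear).orthogonal E, w ∉ Submodule.span F {u} := by
        refine SetLike.not_le_iff_exists.1 fun hle => ?_
        have h3 := (Submodule.finrank_mono hle).trans (finrank_span_le_card _)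
        simp only [Set.toFinset_singleton, Finset.card_singleton] at h3
        omega
      exact ⟨w, ⟨LinearMap.BilinForm.mem_orthogonal_iff.mp hw a (Submodule.subset_span (by simp)),
        LinearMap.BilinForm.mem_orthogonal_iff.mp hw b (Submodule.subset_span (by simp))⟩,
        LinearMap.BilinForm.mem_orthogonal_iff.mp hw u (Submodule.subset_span (by simp)), hwu⟩
    have hav : f a (b + u) = 1 := by rw [add_right' hf, hab, hu.1, add_zero]
    have huv : InW f a (b + u) u := ⟨hu.1, by rw [add_left' hf, hu.2, hf.alternating, add_zero]⟩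
    have hback : b + u + u = b := by rw [add_assoc, add_vec, add_zero]
    by_contra hc
    set c := ψ (s • u) with hcdef
    have hχv : ∀ x : F, χ (x • u) = x ^ 2 / c := fun x => by
      have h2 := perp_P2 H hN hav huv hu0 hv (ψ := χ) (χ := ψ) hχ (by rw [hback]; exact hψ) s (x / c)
      rw [← hcdef, div_mul_cancel₀ x hc] at h2
      rw [h2]
      field_simp
    have hψv : ∀ x : F, x ≠ 0 → ψ (s • u) = (s / x) ^ 2 * c := fun x hx => by
      have h2 := perp_P2 H hN hab hu hu0 hb hψ hχ x (s * c / x ^ 2)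
      rw [hχv x, show s * c / x ^ 2 * (x ^ 2 / c) = s by field_simp] at h2
      rw [h2]
      field_simp
    obtain ⟨x, hx0, hxs⟩ : ∃ x : F, x ≠ 0 ∧ x ≠ s := by
      classical
      by_contra h
      have hsub : (Finset.univ : Finset F) ⊆ ({0, s} : Finset F) := fun y _ => by
        rw [Finset.mem_insert, Finset.mem_singleton]
        exact or_iff_not_imp_left.2 fun hy => by_contra fun hys => h ⟨y, hy, hys⟩
      have := (Finset.card_le_card hsub).trans Finset.card_le_two
      rw [Finset.card_univ] at this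
      omega
    have h3 := hψv x hx0
    rw [← hcdef] at h3
    have h4 : (s / x) ^ 2 = 1 := mul_right_cancel₀ hc (by rw [one_mul]; exact h3.symm)
    have h5 : s / x = 1 := by
      have h6 : (s / x + 1) ^ 2 = 0 := by
        rw [CharTwo.add_sq, h4, one_pow, two_mem]
      exact CharTwo.add_eq_zero.1 (pow_eq_zero_iff two_ne_zero |>.1 h6)
    exact hxs ((div_eq_one_iff_eq hx0).1 h5).symm

/-- A hyperbolic line carries two points only. -/
theorem gate {a b : ι → F} (hab : f a b = 1) (ha : Orb L a0 a) (hb : Orb L a0 b) {δ : F} (hδ : δ ≠ 0) :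
    ¬ Orb L a0 (b + δ • a) := by
  intro hc
  have hf := H.symp
  obtain ⟨φ0, h0⟩ := H.sieg
  obtain ⟨φ, hφ⟩ := ha.sieg hf H.iso h0
  obtain ⟨ψ, hψ⟩ := hb.sieg hf H.iso h0
  obtain ⟨u0, hu0, hu00⟩ := H.exists_inW (a := a) (b := b)
  obtain ⟨u, hu, hφu⟩ := surj hf hab hφ hu0 hu00 δ
  have hune : u ≠ 0 := fun h => hδ (by rw [← hφu, h, hφ.zero hf])
  have hv : Orb L a0 (b + u) := by
    have := hc.transl hf H.iso (hφ.mem u hu.1)
    rwa [Rt_apply_partner hf hab hu, hφu, two_mem, zero_smul, add_zero] at this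
  have h1 : ψ u = 0 := by simpa using perp_zero H hN hbig hab hu hune hb hv hψ 1
  have hba : f b a = 1 := by rw [form_comm hf, hab]
  have hv' : Orb L a0 (a + u) := by
    have := ha.transl hf H.iso (hψ.mem u hu.2)
    rwa [h1, Rt_apply_partner' hf hba hu.symm, zero_smul, add_zero] at this
  have h2 := perp_zero H hN hbig hba hu.symm hune ha hv' hφ 1
  rw [one_smul, hφu] at h2
  exact hδ h2

variable {a b : ι → F} (hab : f a b = 1) (ha : Orb L a0 a) (hb : Orb L a0 b) {φ ψ : (ι → F) → F}
  (hφ : Sieg f L a φ) (hψ : Sieg f L b ψ)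

include hab ha hb hφ hψ

theorem inv_param {u : ι → F} (hu : InW f a b u) (hP : φ u ≠ 0) : ψ ((φ u)⁻¹ • u) = (φ u)⁻¹ := by
  have hf := H.symp
  set P := φ u with hPdef
  set R := ψ (P⁻¹ • u) with hR
  by_contra hne
  have hD : 1 + P * R ≠ 0 := fun h => hne (eq_inv_of_mul_eq_one_right (CharTwo.add_eq_zero.1 h).symm)
  have hba : f b a = 1 := by rw [form_comm hf, hab]
  have hub : f u b = 0 := by rw [form_comm hf]; exact hu.2
  have h2 := (hb.transl hf H.iso (hφ.mem u hu.1)).transl hf H.iso (hψ.mem (P⁻¹ • u) (hu.smul hf _).2)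
  rw [Rt_apply_partner' hf hab hu, ← hR, ← hPdef, mulVec_add, mulVec_add, mulVec_smul,
    Rt_apply_partner' hf hba (hu.smul hf P⁻¹).symm, Rt_fix hf (hu.smul hf _).2 (hf.alternating b) (hu.smul hf _).2,
    Rt_fix hf (hu.smul hf _).2 hub (by rw [smul_right' hf, hf.alternating, mul_zero])] at h2
  have e : b + u + P • (a + P⁻¹ • u + R • b) = (1 + P * R) • (b + (P / (1 + P * R)) • a) := by
    rw [smul_add, smul_add, smul_smul, smul_smul, smul_add, smul_smul, mul_inv_cancel₀ hP, one_smul,
      mul_div_cancel₀ P hD, add_smul, one_smul]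
    linear_combination (norm := module) add_vec u
  rw [e] at h2
  have h3 := h2.smul hf H.iso (inv_ne_zero hD)
  rw [smul_smul, inv_mul_cancel₀ hD, one_smul] at h3
  exact gate H hN hbig hab ha hb (div_ne_zero hP hD) h3

theorem param_scale {x z : ι → F} (hx : InW f a b x) (hz : InW f a b z) (hzx : f z x = φ x) (h0 : φ x ≠ 0) :
    φ ((φ z / φ x) • x) = (φ z) ^ 2 / φ x := by
  have hf := H.symp
  rcases eq_or_ne (φ z) 0 with hR | hR
  · rw [hR, zero_div, zero_smul, hφ.zero hf, zero_pow two_ne_zero, zero_div]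
  set R := φ z with hRdef
  have hy : φ (z + x) = R := by
    rw [hφ.add _ _ hz.1 hx.1, hzx, add_assoc, two_mem, add_zero]
  have h1 := inv_param H hN hbig hab ha hb hφ hψ hz (by rw [← hRdef]; exact hR)
  have h2 := inv_param H hN hbig hab ha hb hφ hψ (hz.add hf hx) (by rw [hy]; exact hR)
  rw [← hRdef] at h1
  rw [hy] at h2
  have h3 : ψ (R⁻¹ • x) = φ x / R ^ 2 := by
    have e : R⁻¹ • z + R⁻¹ • (z + x) = R⁻¹ • x := by rw [smul_add, ← add_assoc, add_vec, zero_add]
    rw [← e, hψ.add _ _ (hz.smul hf _).2 ((hz.add hf hx).smul hf _).2, h1, h2, two_mem, zero_add, smul_left' hf,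
      smul_right' hf, add_right' hf, hf.alternating, hzx, zero_add]
    field_simp
  have hba : f b a = 1 := by rw [form_comm hf, hab]
  have h4 := inv_param H hN hbig hba hb ha hψ hφ (hx.smul hf R⁻¹).symm
    (by rw [h3]; exact div_ne_zero h0 (pow_ne_zero 2 hR))
  rw [h3, smul_smul] at h4
  convert h4 using 2
  · congr 1
    field_simp
  · field_simp

theorem homog {x : ι → F} (hx : InW f a b x) (c : F) : φ (c • x) = c ^ 2 * φ x := by
  have hf := H.symp
  suffices key : ∀ x, InW f a b x → φ x ≠ 0 → ∀ c : F, φ (c • x) = c ^ 2 * φ x by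
    by_cases h0 : φ x = 0
    · rw [h0, mul_zero]
      by_contra hne
      rcases eq_or_ne c 0 with rfl | hc
      · exact hne (by rw [zero_smul, hφ.zero hf])
      have h1 := key _ (hx.smul hf c) hne c⁻¹
      rw [smul_smul, inv_mul_cancel₀ hc, one_smul, h0] at h1
      exact mul_ne_zero (pow_ne_zero 2 (inv_ne_zero hc)) hne h1.symm
    · exact key x hx h0 c
  clear hx c x
  intro x hx h0
  set P0 := φ x with hP0
  have hxne : x ≠ 0 := fun h => h0 (by rw [hP0, h, hφ.zero hf])
  obtain ⟨z0, hz0, hxz⟩ := exists_inW_pair hf hab hx hxne P0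
  have hz0x : f z0 x = P0 := by rw [form_comm hf, hxz]
  let π : F →+ F := AddMonoidHom.mk' (fun t => φ (t • x) / P0) fun s t => by
    show φ ((s + t) • x) / P0 = φ (s • x) / P0 + φ (t • x) / P0
    rw [add_smul, hφ.add _ _ (hx.smul hf s).1 (hx.smul hf t).1, smul_left' hf, smul_right' hf, hf.alternating,
      mul_zero, mul_zero, add_zero, add_div]
  have hπ : ∀ t, φ (t • x) = P0 * π t := fun t => (mul_div_cancel₀ _ h0).symm
  have hπ1 : π 1 = 1 := by
    show φ ((1 : F) • x) / P0 = 1
    rw [one_smul, ← hP0, div_self h0]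
  have hS : ∀ t, π (π t + t) = π t ^ 2 + t ^ 2 := by
    have key : ∀ t, π (φ z0 / P0 + (π t + t)) = (φ z0 / P0 + (π t + t)) ^ 2 := fun t => by
      have h1 := param_scale H hN hbig hab ha hb hφ hψ hx (hz0.add hf (hx.smul hf t))
        (by rw [add_left' hf, smul_left' hf, hf.alternating, hz0x, mul_zero, add_zero, hP0]) h0
      rw [← hP0, hπ] at h1
      have e : φ (z0 + t • x) = P0 * (φ z0 / P0 + (π t + t)) := by
        rw [hφ.add _ _ hz0.1 (hx.smul hf t).1, hπ, smul_right' hf, hz0x]
        field_simp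
        ring
      rw [e, mul_div_cancel_left₀ _ h0] at h1
      refine mul_left_cancel₀ h0 ?_
      rw [h1]
      field_simp
    intro t
    have h1 := key t
    have h2 := key 0
    rw [map_zero, add_zero, add_zero] at h2
    rw [map_add, h2, CharTwo.add_sq, CharTwo.add_sq] at h1
    linear_combination h1
  have hinj : Function.Injective π := (injective_iff_map_eq_zero π).2 fun t ht => by
    have := hS t
    rw [ht, zero_add, ht, zero_pow two_ne_zero, zero_add] at this
    exact pow_eq_zero_iff two_ne_zero |>.1 this.symm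
  have hsurj : Function.Surjective π := Finite.injective_iff_surjective.1 hinj
  let ρ : F →+ F := AddMonoidHom.mk' (fun t => P0 * ψ ((t / P0) • x)) fun s t => by
    show P0 * ψ (((s + t) / P0) • x) = P0 * ψ ((s / P0) • x) + P0 * ψ ((t / P0) • x)
    rw [add_div, add_smul, hψ.add _ _ (hx.smul hf _).2 (hx.smul hf _).2, smul_left' hf, smul_right' hf,
      hf.alternating, mul_zero, mul_zero, add_zero, mul_add]
  have hρ : ∀ s, π s ≠ 0 → ρ (s / π s) = (π s)⁻¹ := fun s hs => by
    have h1 := inv_param H hN hbig hab ha hb hφ hψ (hx.smul hf s) (by rw [hπ]; exact mul_ne_zero h0 hs)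
    rw [hπ, smul_smul] at h1
    show P0 * ψ ((s / π s / P0) • x) = (π s)⁻¹
    rw [show s / π s / P0 = (P0 * π s)⁻¹ * s by field_simp, h1]
    field_simp
  have hρinj : Function.Injective ρ := by
    refine Finite.injective_iff_surjective.2 fun y => ?_
    rcases eq_or_ne y 0 with rfl | hy
    · exact ⟨0, map_zero ρ⟩
    obtain ⟨s, hs⟩ := hsurj y⁻¹
    exact ⟨_, (hρ s (by rw [hs]; exact inv_ne_zero hy)).trans (by rw [hs, inv_inv])⟩
  have hsq : ∀ z, π z = z ^ 2 := by
    intro z
    rcases eq_or_ne z 0 with rfl | hz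
    · rw [map_zero, zero_pow two_ne_zero]
    rcases eq_or_ne (z + 1) 0 with hz1 | hz1
    · rw [CharTwo.add_eq_zero.1 hz1, hπ1, one_pow]
    obtain ⟨s, hs⟩ := hsurj z
    obtain ⟨s', hs'⟩ := hsurj (z ^ 2 + z)
    have hzz : z ^ 2 + z ≠ 0 := by
      rw [show z ^ 2 + z = z * (z + 1) by ring]
      exact mul_ne_zero hz hz1
    have hs1 : π (s + 1) = z + 1 := by rw [map_add, hs, hπ1]
    have h1 : ρ (s / z + (s + 1) / (z + 1)) = ρ (s' / (z ^ 2 + z)) := by
      have a1 := hρ s (by rw [hs]; exact hz)
      have a2 := hρ (s + 1) (by rw [hs1]; exact hz1)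
      have a3 := hρ s' (by rw [hs']; exact hzz)
      rw [hs] at a1
      rw [hs1] at a2
      rw [hs'] at a3
      rw [map_add, a1, a2, a3]
      field_simp
      linear_combination z * (CharTwo.two_eq_zero (R := F))
    have h2 := hρinj h1
    have h3 : s' = s + z := by
      field_simp at h2
      have h20 : (2 : F) = 0 := CharTwo.two_eq_zero
      linear_combination -h2 + (s * z) * h20
    rw [h3, map_add, hs] at hs'
    linear_combination hs'
  intro c
  rw [hπ, hsq]
  ring

theorem param_eq {x : ι → F} (hx : InW f a b x) : ψ x = φ x := by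
  have hf := H.symp
  have hba : f b a = 1 := by rw [form_comm hf, hab]
  have key : ∀ {c d : ι → F} {χ θ : (ι → F) → F}, f c d = 1 → Orb L a0 c → Orb L a0 d → Sieg f L c χ →
      Sieg f L d θ → InW f c d x → χ x ≠ 0 → θ x = χ x := by
    intro c d χ θ hcd hc hd hχ hθ hxcd h0
    have hdc : f d c = 1 := by rw [form_comm hf, hcd]
    have h1 := inv_param H hN hbig hcd hc hd hχ hθ hxcd h0
    rw [homog H hN hbig hdc hd hc hθ hχ hxcd.symm] at h1
    field_simp at h1
    exact h1
  by_cases h0 : φ x = 0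
  · by_contra hne
    have := key hba hb ha hψ hφ hx.symm (fun h => hne (h.trans h0.symm))
    exact hne this.symm
  · exact key hab ha hb hφ hψ hx h0

end CfsgLib.SpTwoOver
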