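/-
Without transvections at the points, the group lies between the commutator group of an orthogonal group and
that orthogonal group.
-/
import Cfsg.Agent.Lib.SpTwoOver.Pair
import Cfsg.Agent.Lib.KnownSimple.CharTwoInv.InvolConj

set_option autoImplicit false
set_option linter.all false

namespace CfsgLib.SpTwoOver

open Matrix CfsgLib.Transvec CfsgLib.SpFour CfsgLib.Classical CfsgLib.KnownSimple.CharTwoInv
open scoped MatrixGroups

variable {ι : Type} [Fintype ι] [DecidableEq ι] {F : Type*} [Field F] [CharP F 2] [Fintype F]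
  {f : (ι → F) → (ι → F) → F} (hf : Cfsg.Geo.IsSymplecticForm f)

/-- Parameters at two non-perpendicular points of the orbit agree on the common perp. -/
def Agree (f : (ι → F) → (ι → F) → F) (L : Subgroup (GL ι F)) (a0 : ι → F) : Prop :=
  ∀ {a b : ι → F} {φ ψ : (ι → F) → F}, f a b = 1 → Orb L a0 a → Orb L a0 b → Sieg f L a φ → Sieg f L b ψ →
    ∀ {x : ι → F}, InW f a b x → ψ x = φ x

/-- A point whose parameters are the values of `Q`. -/
def Good (f : (ι → F) → (ι → F) → F) (L : Subgroup (GL ι F)) (a0 : ι → F) (Q : QuadraticForm F (ι → F))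
    (p : ι → F) : Prop :=
  Orb L a0 p ∧ Q p = 0 ∧ ∀ w, f p w = 0 → Rt f p w (Q w) ∈ L

include hf in
/-- The quadratic form of a hyperbolic pair and parameters on its perp. -/
theorem exists_quad {a b : ι → F} (hab : f a b = 1) {φ : (ι → F) → F}
    (hadd : ∀ w w', InW f a b w → InW f a b w' → φ (w + w') = φ w + φ w' + f w w')
    (hsmul : ∀ w, InW f a b w → ∀ c : F, φ (c • w) = c ^ 2 * φ w) :
    ∃ Q : QuadraticForm F (ι → F), (∀ u v, QuadraticMap.polar Q u v = f u v) ∧
      ∀ x, Q x = f x a * f x b + φ (proj f a b x) := by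
  set q : (ι → F) → F := fun x => f x a * f x b + φ (proj f a b x) with hqdef
  have hba : f b a = 1 := by rw [form_comm hf, hab]
  have hfx : ∀ x y, f x y = f (proj f a b x) (proj f a b y) + f x b * f y a + f x a * f y b := by
    intro x y
    simp only [proj, add_left' hf, add_right' hf, smul_left' hf, smul_right' hf, hf.alternating, hab, hba,
      form_comm hf a x, form_comm hf b x, form_comm hf a y, form_comm hf b y]
    have h20 : (2 : F) = 0 := CharTwo.two_eq_zero
    linear_combination -(2 * (f x b * f y a + f x a * f y b)) * h20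
  have hq : ∀ x y, q (x + y) = q x + q y + f x y := fun x y => by
    simp only [hqdef]
    rw [add_left' hf, add_left' hf, proj_add hf, hadd _ _ (proj_inW hf hab x) (proj_inW hf hab y), hfx x y]
    ring
  have hpol : ∀ x y, QuadraticMap.polar q x y = f x y := fun x y => by
    rw [QuadraticMap.polar, hq]; ring
  exact ⟨QuadraticMap.ofPolar q
    (fun c x => by
      simp only [hqdef, smul_eq_mul]
      rw [smul_left' hf, smul_left' hf, proj_smul hf, hsmul _ (proj_inW hf hab x)]
      ring)
    (fun x x' y => by rw [hpol, hpol, hpol, add_left' hf])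
    (fun c x y => by rw [hpol, hpol, smul_left' hf, smul_eq_mul]), hpol, fun x => rfl⟩

variable {L : Subgroup (GL ι F)} {a0 : ι → F} {Q : QuadraticForm F (ι → F)}
  (hQf : ∀ u v, QuadraticMap.polar Q u v = f u v)

include hQf

lemma quad_add' (u v : ι → F) : Q (u + v) = Q u + Q v + f u v := by
  rw [quad_add, hQf]

lemma quad_smul' (t : F) (v : ι → F) : Q (t • v) = t ^ 2 * Q v := by
  rw [quad_smul]; ring

include hf

lemma Good.sieg {p : ι → F} (h : Good f L a0 Q p) : Sieg f L p (fun w => Q w) :=
  ⟨h.2.2, fun w w' _ _ => quad_add' hQf w w', fun t => by rw [quad_smul' hQf, h.2.1, mul_zero]⟩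

lemma Good.scale (hL : ∀ g ∈ L, Iso f g) {p : ι → F} (h : Good f L a0 Q p) {s : F} (hs : s ≠ 0) :
    Good f L a0 Q (s • p) := by
  refine ⟨h.1.smul hf hL hs, by rw [quad_smul' hQf, h.2.1, mul_zero], fun w hw => ?_⟩
  have h1 := ((Good.sieg hf hQf h).smul hf hs).mem w hw
  simp only [quad_smul' hQf, mul_div_cancel_left₀ _ (pow_ne_zero 2 hs)] at h1
  exact h1

variable (H : Hyp f L a0) (hpe : Agree f L a0)

include H hpe

lemma Good.partner {p r : ι → F} (hp : Good f L a0 Q p) (hr : Orb L a0 r) (hpr : f p r = 1) {ψ : (ι → F) → F}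
    (hψ : Sieg f L r ψ) {x : ι → F} (hx : f r x = 0) : ψ x = Q x + f x p ^ 2 * Q r := by
  have hrp : f r p = 1 := by rw [form_comm hf, hpr]
  have hy : InW f p r (x + f x p • r) := by
    constructor
    · rw [add_right' hf, smul_right' hf, hpr, mul_one, form_comm hf p x, two_mem]
    · rw [add_right' hf, smul_right' hf, hf.alternating, hx, mul_zero, add_zero]
  have h1 := hpe hpr hp.1 hr (Good.sieg hf hQf hp) hψ hy
  rw [hψ.shift hf hx, quad_add' hQf, quad_smul' hQf, smul_right' hf, form_comm hf x r, hx, mul_zero, add_zero] at h1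
  exact h1

lemma Good.other {p r : ι → F} (hp : Good f L a0 Q p) (hr : Orb L a0 r) (hpr : f p r = 1) (hQr : Q r = 0) :
    Good f L a0 Q r := by
  obtain ⟨φ0, h0⟩ := H.sieg
  obtain ⟨ψ, hψ⟩ := hr.sieg hf H.iso h0
  refine ⟨hr, hQr, fun w hw => ?_⟩
  have h1 := Good.partner hf hQf H hpe hp hr hpr hψ hw
  rw [hQr, mul_zero, add_zero] at h1
  rw [← h1]
  exact hψ.mem w hw

lemma Good.nonperp {c d : ι → F} (hc : Good f L a0 Q c) (hd : Good f L a0 Q d) (hcd : f c d = 1) {x : ι → F}
    (hx : Q x = 0) (hxc : f x c ≠ 0) : Good f L a0 Q x := by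
  set y := (f x c)⁻¹ • x with hy
  have hyc : f y c = 1 := by rw [hy, smul_left' hf, inv_mul_cancel₀ hxc]
  have hQy : Q y = 0 := by rw [hy, quad_smul' hQf, hx, mul_zero]
  set w := proj f c d y with hw
  have hwW := proj_inW hf hcd y
  rw [← hw] at hwW
  have hdec : y = d + w + f y d • c := by
    have := proj_decomp hf (a := c) (b := d) y
    rw [hyc, one_smul, ← hw] at this
    exact this.trans (by abel)
  have hQw : Q w = f y d := by
    rw [hdec, quad_add' hQf, quad_add' hQf, quad_smul' hQf, hd.2.1, hc.2.1, hwW.2, add_left' hf, smul_right' hf,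
      smul_right' hf, form_comm hf d c, hcd, form_comm hf w c, hwW.1] at hQy
    exact CharTwo.add_eq_zero.1 (by linear_combination hQy)
  have horb := hd.1.transl hf H.iso (hc.2.2 w hwW.1)
  rw [Rt_apply_partner' hf hcd hwW, hQw, ← hdec] at horb
  have hgood := Good.other hf hQf H hpe hc horb (by rw [form_comm hf, hyc]) hQy
  have := Good.scale hf hQf H.iso hgood hxc
  rwa [hy, smul_smul, mul_inv_cancel₀ hxc, one_smul] at this

variable {a b : ι → F} (hga : Good f L a0 Q a) (hgb : Good f L a0 Q b) (hab : f a b = 1)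

include hga hgb hab

theorem good_of_singular {x : ι → F} (hx0 : x ≠ 0) (hx : Q x = 0) : Good f L a0 Q x := by
  by_cases hxa : f x a = 0
  swap
  · exact Good.nonperp hf hQf H hpe hga hgb hab hx hxa
  by_cases hxb : f x b = 0
  swap
  · exact Good.nonperp hf hQf H hpe hgb hga (by rw [form_comm hf, hab]) hx hxb
  have hW : InW f a b x := ⟨by rw [form_comm hf, hxa], by rw [form_comm hf, hxb]⟩
  obtain ⟨w, hw, hxw⟩ := exists_inW_pair hf hab hW hx0 1
  set r := b + w + Q w • a with hr
  have hra : f r a = 1 := by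
    rw [hr, add_left' hf, add_left' hf, smul_left' hf, hf.alternating, form_comm hf b a, hab, form_comm hf w a,
      hw.1, mul_zero, add_zero, add_zero]
  have hQr : Q r = 0 := by
    rw [hr, quad_add' hQf, quad_add' hQf, quad_smul' hQf, hgb.2.1, hga.2.1, hw.2, add_left' hf, smul_right' hf,
      smul_right' hf, form_comm hf b a, hab, form_comm hf w a, hw.1]
    linear_combination two_mem (a := Q w)
  have hgr := Good.nonperp hf hQf H hpe hga hgb hab hQr (by rw [hra]; exact one_ne_zero)
  exact Good.nonperp hf hQf H hpe hgr hga hra hx (by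
    rw [hr, add_right' hf, add_right' hf, smul_right' hf, hxb, hxa, hxw, mul_zero, zero_add, add_zero]
    exact one_ne_zero)

variable (hN : NoT f L a0)

include hN

theorem singular_of_orb (hbig : 2 < Fintype.card F ∨ 4 < Fintype.card ι) {r : ι → F} (hr : Orb L a0 r) : Q r = 0 := by
  by_contra hQr
  have hr0 : r ≠ 0 := hr.ne_zero hf H.iso H.ne
  obtain ⟨φ0, h0⟩ := H.sieg
  have gs := fun {x : ι → F} => good_of_singular hf hQf H hpe hga hgb hab (x := x)
  obtain ⟨p, hp, hpr⟩ : ∃ p, Good f L a0 Q p ∧ f p r = 1 := by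
    suffices ∃ p, Good f L a0 Q p ∧ f p r ≠ 0 by
      obtain ⟨p, hp, hne⟩ := this
      exact ⟨(f p r)⁻¹ • p, Good.scale hf hQf H.iso hp (inv_ne_zero hne),
        by rw [smul_left' hf, inv_mul_cancel₀ hne]⟩
    by_contra hcon
    simp only [not_exists, not_and, not_not] at hcon
    have ha' := hcon a hga
    have hb' := hcon b hgb
    obtain ⟨w, hw, hrw⟩ := exists_inW_pair hf hab ⟨ha', hb'⟩ hr0 1
    have hwr : f w r = 1 := by rw [form_comm hf, hrw]
    have hQ : Q (b + w + Q w • a) = 0 := by
      rw [quad_add' hQf, quad_add' hQf, quad_smul' hQf, hgb.2.1, hga.2.1, hw.2, add_left' hf, smul_right' hf,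
        smul_right' hf, form_comm hf b a, hab, form_comm hf w a, hw.1]
      linear_combination two_mem (a := Q w)
    have hne : b + w + Q w • a ≠ 0 := fun h => by
      have := congrArg (fun v => f v a) h
      simp [add_left' hf, smul_left' hf, hf.alternating, form_comm hf b a, hab, form_comm hf w a, hw.1,
        zero_left' hf] at this
    have := hcon _ (gs hne hQ)
    rw [add_left' hf, add_left' hf, smul_left' hf, hb', ha', hwr, mul_zero, zero_add, add_zero] at this
    exact one_ne_zero this
  have hp0 : p ≠ 0 := hp.1.ne_zero hf H.iso H.ne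
  set d := r + Q r • p with hd
  have hpd : f p d = 1 := by rw [hd, add_right' hf, smul_right' hf, hf.alternating, hpr, mul_zero, add_zero]
  have hQd : Q d = 0 := by
    rw [hd, quad_add' hQf, quad_smul' hQf, hp.2.1, smul_right' hf, form_comm hf r p, hpr]
    linear_combination two_mem (a := Q r)
  have hgd : Good f L a0 Q d := gs (fun h => by rw [h, zero_right' hf] at hpd; exact zero_ne_one hpd) hQd
  obtain ⟨y, hy, hy0, hQy⟩ : ∃ y, InW f p d y ∧ y ≠ 0 ∧ Q y ≠ Q r := by
    obtain ⟨u, hu, hu0⟩ := H.exists_inW (a := p) (b := d)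
    rcases hbig with hq | h4
    · obtain ⟨δ, hδ0, hδ⟩ : ∃ δ : F, δ ≠ 0 ∧ δ ≠ Q r := by
        by_contra h
        classical
        have hsub : (Finset.univ : Finset F) ⊆ ({0, Q r} : Finset F) := fun y _ => by
          rw [Finset.mem_insert, Finset.mem_singleton]
          exact or_iff_not_imp_left.2 fun hy => by_contra fun hys => h ⟨y, hy, hys⟩
        have := (Finset.card_le_card hsub).trans Finset.card_le_two
        rw [Finset.card_univ] at this
        omega
      obtain ⟨y, hy, hQy⟩ := surj hf hpd (Good.sieg hf hQf hp) hu hu0 δ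
      exact ⟨y, hy, fun h => hδ0 (by rw [← hQy, h]; exact QuadraticMap.map_zero Q), by rw [hQy]; exact hδ⟩
    · classical
      let E := Submodule.span F ({p, d, u} : Set (ι → F))
      have h1 : Module.finrank F E ≤ 3 := by
        refine le_trans (finrank_span_le_card _) ?_
        rw [Set.toFinset_insert, Set.toFinset_insert, Set.toFinset_singleton]
        exact Finset.card_le_three
      have h2 := LinearMap.BilinForm.finrank_orthogonal (bilin_nondegenerate hf) E
      rw [Module.finrank_fintype_fun_eq_card] at h2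
      obtain ⟨v, hv, hvu⟩ : ∃ v ∈ (toBilin hf.bilinear).orthogonal E, v ∉ Submodule.span F {u} := by
        refine SetLike.not_le_iff_exists.1 fun hle => ?_
        have h3 := (Submodule.finrank_mono hle).trans (finrank_span_le_card _)
        simp only [Set.toFinset_singleton, Finset.card_singleton] at h3
        omega
      have hvW : InW f p d v := ⟨LinearMap.BilinForm.mem_orthogonal_iff.mp hv p (Submodule.subset_span (by simp)),
        LinearMap.BilinForm.mem_orthogonal_iff.mp hv d (Submodule.subset_span (by simp))⟩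
      have huv : f u v = 0 := LinearMap.BilinForm.mem_orthogonal_iff.mp hv u (Submodule.subset_span (by simp))
      by_cases hQu : Q u = Q r
      · by_cases hQv : Q v = Q r
        · refine ⟨u + v, hu.add hf hvW, fun h => hvu ?_, ?_⟩
          · rw [Submodule.mem_span_singleton]
            exact ⟨1, by rw [one_smul]; linear_combination (norm := module) h - add_vec v⟩
          · rw [quad_add' hQf, hQu, hQv, huv, two_mem, add_zero]
            exact Ne.symm hQr
        · exact ⟨v, hvW, fun h => hvu (h ▸ Submodule.zero_mem _), hQv⟩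
      · exact ⟨u, hu, hu0, hQu⟩
  set p' := d + y + Q y • p with hp'
  have hpp' : f p p' = 1 := by
    rw [hp', add_right' hf, add_right' hf, smul_right' hf, hf.alternating, hpd, hy.1, mul_zero, add_zero, add_zero]
  have hrd : r = d + Q r • p := by
    rw [hd, add_assoc, add_vec, add_zero]
  set k := f p' r with hk
  have hk0 : k ≠ 0 := fun h => hQy (CharTwo.add_eq_zero.1 (by
    rw [← h, hk, hp', hrd]
    simp only [add_left' hf, add_right' hf, smul_left' hf, smul_right' hf, hf.alternating, form_comm hf y d, hy.2,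
      form_comm hf y p, hy.1, form_comm hf d p, hpd, quad_add' hQf, quad_smul' hQf, hp.2.1, hQd]
    ring))
  have hgp' : Good f L a0 Q p' := gs (fun h => by rw [h, zero_right' hf] at hpp'; exact zero_ne_one hpp') (by
    rw [hp', quad_add' hQf, quad_add' hQf, quad_smul' hQf, hQd, hp.2.1, hy.2, add_left' hf, smul_right' hf,
      smul_right' hf, form_comm hf d p, hpd, form_comm hf y p, hy.1]
    linear_combination two_mem (a := Q y))
  set p'' := k⁻¹ • p' with hp''
  have hgp'' : Good f L a0 Q p'' := Good.scale hf hQf H.iso hgp' (inv_ne_zero hk0)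
  obtain ⟨ψ, hψ⟩ := hr.sieg hf H.iso h0
  have heq : ∀ x, f x r = 0 → f x (p + p'') = 0 := fun x hx => by
    have h1 := Good.partner hf hQf H hpe hp hr hpr hψ (x := x) (by rw [form_comm hf]; exact hx)
    have h2 := Good.partner hf hQf H hpe hgp'' hr (by rw [hp'', smul_left' hf, ← hk, inv_mul_cancel₀ hk0]) hψ
      (x := x) (by rw [form_comm hf]; exact hx)
    rw [h1] at h2
    have h3 : f x p ^ 2 = f x p'' ^ 2 := mul_right_cancel₀ hQr (add_left_cancel h2)
    have h4 : (f x p + f x p'') ^ 2 = 0 := by rw [CharTwo.add_sq, h3, two_mem]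
    rw [add_right' hf]
    exact pow_eq_zero_iff two_ne_zero |>.1 h4
  obtain ⟨ν, hν⟩ : ∃ ν : F, ν • r = p + p'' := by
    refine Submodule.mem_span_singleton.1 (by_contra fun hmem => ?_)
    obtain ⟨x, hx, hxv⟩ := exists_perp_ne hf hmem
    exact hxv (heq x (hx r (Submodule.mem_span_singleton_self r)))
  have hν' : ν = k⁻¹ := by
    have := congrArg (f p) hν
    rwa [smul_right' hf, hpr, mul_one, add_right' hf, hf.alternating, hp'', smul_right' hf, hpp', mul_one,
      zero_add] at this
  obtain ⟨s, hs⟩ := (hf.nondegenerate y hy0).2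
  have hys : f y (proj f p d s) = f y s := by
    rw [proj, add_right' hf, add_right' hf, smul_right' hf, smul_right' hf, form_comm hf y p, hy.1,
      form_comm hf y d, hy.2, mul_zero, mul_zero, add_zero, add_zero]
  have hWs := proj_inW hf hpd s
  have h5 := congrArg (fun v => f v (proj f p d s)) hν
  obtain ⟨ρ, hρ⟩ : ∃ ρ, ρ = Q r := ⟨_, rfl⟩
  rw [← hρ] at hrd
  simp only [hν', hrd, hp'', hp', add_left' hf, smul_left' hf, hWs.1, hWs.2, hys] at h5
  refine hs ((mul_eq_zero.1 ?_).resolve_left (inv_ne_zero hk0))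
  linear_combination -h5

theorem invariant (hsing : ∀ {r}, Orb L a0 r → Q r = 0) {g : GL ι F} (hg : g ∈ L) (x : ι → F) : Q ((g : Matrix ι ι F) *ᵥ x) = Q x := by
  have hi := H.iso g hg
  have hoa := hga.1.transl hf H.iso hg
  have hGa := good_of_singular hf hQf H hpe hga hgb hab (hoa.ne_zero hf H.iso H.ne)
    (hsing hoa)
  have hperp : ∀ w, f a w = 0 → Q ((g : Matrix ι ι F) *ᵥ w) = Q w := fun w hw => by
    have h1 := Rt_mem_conj hf hg hi (hga.2.2 w hw)
    have hw' : f ((g : Matrix ι ι F) *ᵥ a) ((g : Matrix ι ι F) *ᵥ w) = 0 := by rw [hi]; exact hw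
    exact (Sieg.unique hf H.iso (hoa.noT hf H.iso hN) (Good.sieg hf hQf hGa) hw' h1).symm
  set t := f x a with ht
  have hw : f a (x + t • b) = 0 := by
    rw [add_right' hf, smul_right' hf, hab, mul_one, form_comm hf a x, ← ht, two_mem]
  have e : x = (x + t • b) + t • b := by rw [add_assoc, add_vec, add_zero]
  have hQb' := hsing (hgb.1.transl hf H.iso hg)
  rw [e, mulVec_add, mulVec_smul, quad_add' hQf, quad_add' hQf, hperp _ hw, quad_smul' hQf, quad_smul' hQf, hQb',
    hgb.2.1, smul_right' hf, smul_right' hf, hi]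

end CfsgLib.SpTwoOver
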