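/-
The orthogonal alternative: the group contains all Eichler transformations of the quadratic form.
-/
import Cfsg.Agent.Lib.SpTwoOver.Quad
import Cfsg.Agent.Lib.Classical.QuadEichler

set_option autoImplicit false
set_option linter.all false

namespace CfsgLib.SpTwoOver

open Matrix CfsgLib.Transvec CfsgLib.SpFour CfsgLib.Classical CfsgLib.KnownSimple.CharTwoInv
open scoped MatrixGroups

section Space

variable {F V : Type*} [Field F] [CharP F 2] [AddCommGroup V] [Module F V] [FiniteDimensional F V]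
  (Q : QuadraticForm F V)

theorem even_qRank_eich (hQ : PolarNondeg Q) {u w : V} (hu : Q u = 0) (h : QuadraticMap.polar Q u w = 0) :
    Even (qRank Q (eich Q u w)) := by
  rcases eq_or_ne u 0 with rfl | hu0
  · rw [show eich Q (0 : V) w = 1 from qAut_ext fun x => by rw [eich_apply Q hu h]; simp, qRank_one]
    exact Even.zero
  by_cases hdep : ∃ s : F, s • u = w
  · obtain ⟨s, rfl⟩ := hdep
    have := eich_add_self Q hu (QuadraticMap.polar_zero_right Q u) s
    rw [zero_add, eich_zero Q hu] at this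
    rw [this, qRank_one]
    exact Even.zero
  simp only [not_exists] at hdep
  set M := (eich Q u w).1.toLinearMap - LinearMap.id with hM
  have hMx : ∀ x, M x = QuadraticMap.polar Q x u • w -
      (QuadraticMap.polar Q x w + Q w * QuadraticMap.polar Q x u) • u := fun x => by
    show (eich Q u w).1 x - x = _
    rw [eich_apply Q hu h]
    abel
  have hind : LinearIndependent F ![u, w] := (LinearIndependent.pair_iff' hu0).2 hdep
  have hrange : LinearMap.range M = Submodule.span F (Set.range ![u, w]) := by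
    refine le_antisymm ?_ ?_
    · rintro _ ⟨x, rfl⟩
      rw [hMx]
      exact Submodule.sub_mem _ (Submodule.smul_mem _ _ (Submodule.subset_span ⟨1, rfl⟩))
        (Submodule.smul_mem _ _ (Submodule.subset_span ⟨0, rfl⟩))
    · obtain ⟨y, hy, hy'⟩ := exists_polar_sep Q hQ (a := w) (b := u) hdep
      have huM : u ∈ LinearMap.range M := by
        refine ⟨(-(QuadraticMap.polar Q w y)⁻¹) • y, ?_⟩
        rw [map_smul, hMx, QuadraticMap.polar_comm Q y u, hy, QuadraticMap.polar_comm Q y w, zero_smul, mul_zero,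
          add_zero, zero_sub, ← neg_smul, smul_smul, neg_mul_neg, inv_mul_cancel₀ hy', one_smul]
      obtain ⟨x, hx⟩ : ∃ x, QuadraticMap.polar Q x u ≠ 0 := by
        by_contra hc
        simp only [not_exists, not_not] at hc
        exact hu0 (hQ u fun x => by rw [QuadraticMap.polar_comm]; exact hc x)
      have hwM : w ∈ LinearMap.range M := by
        have h1 : M x + (QuadraticMap.polar Q x w + Q w * QuadraticMap.polar Q x u) • u ∈ LinearMap.range M :=
          Submodule.add_mem _ ⟨x, rfl⟩ (Submodule.smul_mem _ _ huM)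
        rw [hMx, sub_add_cancel] at h1
        exact (Submodule.smul_mem_iff _ hx).1 h1
      rw [Submodule.span_le, Set.range_subset_iff]
      intro i
      fin_cases i
      · exact huM
      · exact hwM
  have : qRank Q (eich Q u w) = 2 := by
    show Module.finrank F (LinearMap.range M) = 2
    rw [hrange, finrank_span_eq_card hind, Fintype.card_fin]
  rw [this]
  exact even_two

variable [Fintype F]

/-- The parity of the rank is a homomorphism in every case. -/
theorem exists_parity_all (hQ : PolarNondeg Q) (hn : 3 ≤ Module.finrank F V) :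
    ∃ D : qAut Q →* Multiplicative (ZMod 2), ∀ g, D g = Multiplicative.ofAdd (qRank Q g : ZMod 2) := by
  have hQ' : PolarNondeg (hypSum Q) := polarNondeg_hypSum hQ
  have hn' : Module.finrank F ((F × F) × V) ≠ 4 := by
    rw [Module.finrank_prod, Module.finrank_prod, Module.finrank_self]; omega
  obtain ⟨D, hD, -⟩ := exists_parity_hom (hypSum Q) hQ' (reflGroup_eq_top _ hQ' (Or.inr hn'))
  let ι' : qAut Q →* qAut (hypSum Q) := MonoidHom.mk' (fun g => ⟨(LinearEquiv.refl F (F × F)).prodCongr g.1,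
      fun x => by
        show hypSum Q (x.1, g.1 x.2) = hypSum Q x
        rw [hypSum_apply, hypSum_apply, qAut_map]⟩)
    fun g h => qAut_ext fun x => rfl
  refine ⟨D.comp ι', fun g => ?_⟩
  rw [MonoidHom.comp_apply, hD]
  congr 2
  have : (ι' g).1.toLinearMap - LinearMap.id = (0 : F × F →ₗ[F] F × F).prodMap (g.1.toLinearMap - LinearMap.id) :=
    LinearMap.ext fun x => Prod.ext (sub_self x.1) rfl
  show Module.finrank F (LinearMap.range ((ι' g).1.toLinearMap - LinearMap.id)) = _
  rw [this]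
  have e : LinearMap.range ((0 : F × F →ₗ[F] F × F).prodMap (g.1.toLinearMap - LinearMap.id)) =
      (LinearMap.range (g.1.toLinearMap - LinearMap.id)).map (LinearMap.inr F (F × F) V) := by
    ext y
    simp only [LinearMap.mem_range, Submodule.mem_map]
    constructor
    · rintro ⟨x, rfl⟩
      exact ⟨_, ⟨x.2, rfl⟩, rfl⟩
    · rintro ⟨_, ⟨x, rfl⟩, rfl⟩
      exact ⟨(0, x), rfl⟩
  rw [e]
  exact ((Submodule.equivMapOfInjective _ LinearMap.inr_injective _).finrank_eq).symm

/-- Every isometry of even rank is a product of Eichler transformations. -/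
theorem mem_eichGroup_of_even (hQ : PolarNondeg Q) (hn : 4 ≤ Module.finrank F V)
    (hgen : ∀ g : qAut Q, ∃ e ∈ eichGroup Q, e⁻¹ * g ∈ reflGroup Q) {g : qAut Q} (he : Even (qRank Q g)) :
    g ∈ eichGroup Q := by
  haveI := eichGroup_normal Q
  obtain ⟨D, hD⟩ := exists_parity_all Q hQ (by omega)
  have hDe : ∀ k ∈ eichGroup Q, D k = 1 := fun k hk => by
    induction hk using Subgroup.closure_induction with
    | mem x hx =>
      obtain ⟨u, w, hu, h, rfl⟩ := hx
      rw [hD, (ZMod.natCast_eq_zero_iff_even).2 (even_qRank_eich Q hQ hu h), ofAdd_zero]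
    | one => exact map_one _
    | mul x y _ _ hx hy => rw [map_mul, hx, hy, one_mul]
    | inv x _ hx => rw [map_inv, hx, inv_one]
  obtain ⟨v0, hv0⟩ := exists_value Q hQ (by omega) (one_ne_zero (α := F))
  have hv0' : Q v0 ≠ 0 := hv0 ▸ one_ne_zero
  set r := qRefl Q hv0' with hr
  have hrefl : ∀ (v : V) (hv : Q v ≠ 0), (qRefl Q hv : qAut Q ⧸ eichGroup Q) = (r : qAut Q ⧸ eichGroup Q) := by
    intro v hv
    obtain ⟨c, hc⟩ := FiniteField.isSquare_of_char_two (ringChar.eq F 2) (Q v)
    have hc0 : c ≠ 0 := fun h => hv (by rw [hc, h, mul_zero])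
    have h1 : Q (c⁻¹ • v) = 1 := by rw [quad_smul, hc]; field_simp
    have h1' : Q (c⁻¹ • v) ≠ 0 := h1 ▸ one_ne_zero
    obtain ⟨s, hs, hsv⟩ := exists_move_level Q hQ hn hv0' (hv0.trans h1.symm)
    have hsv' : Q (s.1 v0) ≠ 0 := by rwa [qAut_map]
    have e : qRefl Q h1' = s * r * s⁻¹ := by
      rw [qRefl_conj Q s hv0' hsv']
      congr 1
      exact hsv.symm
    have e' := congrArg (fun x : qAut Q => (x : qAut Q ⧸ eichGroup Q)) e
    simp only [QuotientGroup.mk_mul, QuotientGroup.mk_inv, (QuotientGroup.eq_one_iff s).2 hs, one_mul, inv_one,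
      mul_one] at e'
    rw [← qRefl_smul Q hv h1', e']
  have hrr : (r : qAut Q ⧸ eichGroup Q) * (r : qAut Q ⧸ eichGroup Q) = 1 := by
    rw [← QuotientGroup.mk_mul, qRefl_mul_self]; rfl
  have hall : ∀ x : qAut Q, ((x : qAut Q ⧸ eichGroup Q) = 1) ∨ ((x : qAut Q ⧸ eichGroup Q) = r) := by
    suffices h : ∀ x ∈ reflGroup Q, ((x : qAut Q ⧸ eichGroup Q) = 1) ∨ ((x : qAut Q ⧸ eichGroup Q) = r) by
      intro x
      obtain ⟨e, he, hx⟩ := hgen x
      have := h _ hx
      rwa [QuotientGroup.mk_mul, QuotientGroup.mk_inv, (QuotientGroup.eq_one_iff e).2 he, inv_one, one_mul] at this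
    intro x hx
    induction hx using Subgroup.closure_induction with
    | mem x hx => obtain ⟨v, hv, rfl⟩ := hx; exact Or.inr (hrefl v hv)
    | one => exact Or.inl rfl
    | mul x y _ _ hx hy =>
      rw [QuotientGroup.mk_mul]
      rcases hx with e | e <;> rcases hy with e' | e' <;> simp [e, e', hrr]
    | inv x _ hx =>
      rw [QuotientGroup.mk_inv]
      rcases hx with e | e <;> simp [e, inv_eq_of_mul_eq_one_right hrr]
  rcases hall g with h | h
  · exact (QuotientGroup.eq_one_iff g).1 h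
  · have hmem : r⁻¹ * g ∈ eichGroup Q := by
      rw [← QuotientGroup.eq_one_iff, QuotientGroup.mk_mul, QuotientGroup.mk_inv, h, inv_mul_cancel]
    have := hDe _ hmem
    rw [map_mul, map_inv, hD g, (ZMod.natCast_eq_zero_iff_even).2 he, ofAdd_zero, mul_one,
      inv_eq_one] at this
    have hr1 : qRank Q r = 1 := by
      have := qRank_refl_mul Q hQ hv0' 1
      rw [mul_one, qRank_one] at this
      rcases this with h | h
      · exact h
      · omega
    rw [hD, hr1] at this
    exact absurd this (by decide)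

end Space

variable {ι : Type} [Fintype ι] [DecidableEq ι] {F : Type*} [Field F] [CharP F 2] [Fintype F]
  {f : (ι → F) → (ι → F) → F} {L : Subgroup (GL ι F)} {a0 : ι → F}
  (H : Hyp f L a0)

include H

/-- A subgroup of the isometry group containing all its Eichler transformations. -/
theorem Hyp.sandwich {Q : QuadraticForm F (ι → F)} (hQf : ∀ u v, QuadraticMap.polar Q u v = f u v)
    (hinv : L ≤ Cfsg.isometryGroup F ⇑Q)
    (hgood : ∀ {u}, u ≠ 0 → Q u = 0 → Good f L a0 Q u)
    (hgen : ∀ g : qAut Q, ∃ e ∈ eichGroup Q, e⁻¹ * g ∈ reflGroup Q) :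
    L = Cfsg.isometryGroup F ⇑Q ∨
      ∀ g : GL ι F, g ∈ L ↔ g ∈ Cfsg.isometryGroup F ⇑Q ∧ Even ((g : Matrix ι ι F) - 1).rank := by
  have hf := H.symp
  have hnd : PolarNondeg Q := fun x hx => by
    by_contra hx0
    obtain ⟨y, hy⟩ := (hf.nondegenerate x hx0).2
    exact hy (by rw [← hQf]; exact hx y)
  have hn : Module.finrank F (ι → F) = Fintype.card ι := Module.finrank_fintype_fun_eq_card F
  have hn4 : 4 ≤ Module.finrank F (ι → F) := by rw [hn]; exact H.dim
  have heich : eichGroup Q ≤ (L.subgroupOf (Cfsg.isometryGroup F ⇑Q)).map (isoEquiv Q).toMonoidHom := by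
    refine (Subgroup.closure_le _).2 ?_
    rintro _ ⟨u, w, hu, h, rfl⟩
    refine ⟨(isoEquiv Q).symm (eich Q u w), ?_, (isoEquiv Q).apply_symm_apply _⟩
    rw [SetLike.mem_coe, Subgroup.mem_subgroupOf]
    rcases eq_or_ne u 0 with rfl | hu0
    · rw [show eich Q (0 : ι → F) w = 1 from qAut_ext fun x => by rw [eich_apply Q hu h]; simp, map_one]
      exact L.one_mem
    · have hmem := (hgood hu0 hu).2.2 w (by rw [← hQf]; exact h)
      convert hmem using 1
      refine gl_ext fun x => ?_
      rw [Rt_mulVec hf (by rw [← hQf]; exact h)]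
      show isoApply ((isoEquiv Q).symm (eich Q u w)) x = _
      rw [← isoEquiv_apply, MulEquiv.apply_symm_apply, eich_apply Q hu h, hQf, hQf, sub_eq_add_neg,
        CfsgLib.SpFour.neg_vec]
      module
  have heven : ∀ g : Cfsg.isometryGroup F ⇑Q, Even (qRank Q (isoEquiv Q g)) → (g : GL ι F) ∈ L := by
    intro g he
    obtain ⟨x, hx, hxe⟩ := heich (mem_eichGroup_of_even Q hnd hn4 hgen he)
    rw [← (isoEquiv Q).injective hxe]
    exact hx
  by_cases hodd : ∃ g : Cfsg.isometryGroup F ⇑Q, (g : GL ι F) ∈ L ∧ ¬ Even (qRank Q (isoEquiv Q g))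
  · obtain ⟨g0, hg0, hodd0⟩ := hodd
    left
    refine le_antisymm hinv fun g hg => ?_
    by_cases he : Even (qRank Q (isoEquiv Q ⟨g, hg⟩))
    · exact heven _ he
    obtain ⟨D, hD⟩ := exists_parity_all Q hnd (by omega)
    have key : ∀ k : qAut Q, ¬ Even (qRank Q k) → D k = Multiplicative.ofAdd 1 := fun k hk => by
      rw [hD]
      rw [Nat.not_even_iff_odd] at hk
      rw [(ZMod.natCast_eq_one_iff_odd).2 hk]
    have he' : Even (qRank Q (isoEquiv Q (g0⁻¹ * ⟨g, hg⟩))) := by
      rw [← ZMod.natCast_eq_zero_iff_even]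
      apply Multiplicative.ofAdd.injective
      rw [← hD, map_mul, map_inv, map_mul, map_inv, key _ he, key _ hodd0, inv_mul_cancel, ofAdd_zero]
    have := L.mul_mem hg0 (heven _ he')
    simpa [← mul_assoc] using this
  · right
    simp only [not_exists, not_and, not_not] at hodd
    refine fun g => ⟨fun hg => ⟨hinv hg, ?_⟩, fun ⟨hg, he⟩ => ?_⟩
    · have := hodd ⟨g, hinv hg⟩ hg
      rwa [← rank_sub_one] at this
    · refine heven ⟨g, hg⟩ ?_
      rw [← rank_sub_one]
      exact he

/-- The quadratic form carried by two points of the orbit. -/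
theorem Hyp.form_of_pair (hpe : Agree f L a0)
    {φ : (ι → F) → F} (hφ : Sieg f L a0 φ) {b : ι → F} (hb : Orb L a0 b) (hab : f a0 b = 1)
    (hsmul : ∀ w, InW f a0 b w → ∀ c : F, φ (c • w) = c ^ 2 * φ w) :
    ∃ Q : QuadraticForm F (ι → F), (∀ u v, QuadraticMap.polar Q u v = f u v) ∧
      Good f L a0 Q a0 ∧ Good f L a0 Q b := by
  have hf := H.symp
  obtain ⟨Q, hQf, hQ⟩ := exists_quad hf hab (φ := φ) (fun w w' hw hw' => hφ.add w w' hw.1 hw'.1) hsmul
  have hproj : ∀ w, f a0 w = 0 → Q w = φ w := fun w hw => by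
    rw [hQ, form_comm hf w a0, hw, zero_mul, zero_add, proj, form_comm hf w a0, hw, zero_smul, add_zero,
      hφ.shift hf hw]
  have hga : Good f L a0 Q a0 := ⟨H.orb_self, by
    rw [hproj _ (hf.alternating a0)]
    exact (one_smul F a0 ▸ hφ.line 1), fun w hw => by rw [hproj w hw]; exact hφ.mem w hw⟩
  have hQb : Q b = 0 := by
    rw [hQ, hf.alternating, mul_zero, zero_add, proj, hf.alternating, form_comm hf b a0, hab, zero_smul, add_zero,
      one_smul, add_vec, hφ.zero hf]
  exact ⟨Q, hQf, hga, Good.other hf hQf H hpe hga hb hab hQb⟩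

/-- The orthogonal conclusion. -/
theorem Hyp.orth (hN : NoT f L a0) (hbig : 2 < Fintype.card F ∨ 4 < Fintype.card ι) :
    ∃ Q : QuadraticForm F (ι → F), (∀ u v, QuadraticMap.polar Q u v = f u v) ∧
      (L = Cfsg.isometryGroup F ⇑Q ∨
        ∀ g : GL ι F, g ∈ L ↔ g ∈ Cfsg.isometryGroup F ⇑Q ∧ Even ((g : Matrix ι ι F) - 1).rank) := by
  have hf := H.symp
  obtain ⟨φ, hφ⟩ := H.sieg
  obtain ⟨b, hb, hab⟩ := H.exists_pair
  obtain ⟨ψ, hψ⟩ := hb.sieg hf H.iso hφ
  have hpe : Agree f L a0 := fun hab ha hb hφ hψ _ hx => param_eq H hN hbig hab ha hb hφ hψ hx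
  obtain ⟨Q, hQf, hga, hgb⟩ := H.form_of_pair hpe hφ hb hab
    (fun w hw c => homog H hN hbig hab H.orb_self hb hφ hψ hw c)
  refine ⟨Q, hQf, H.sandwich hQf (fun g hg x y => invariant hf hQf H hpe hga hgb hab hN
    (singular_of_orb hf hQf H hpe hga hgb hab hN hbig) hg x)
    (fun hu0 hu => good_of_singular hf hQf H hpe hga hgb hab hu0 hu) fun g => ⟨1, one_mem _, ?_⟩⟩
  have hnd : PolarNondeg Q := fun x hx => by
    by_contra hx0
    obtain ⟨y, hy⟩ := (hf.nondegenerate x hx0).2
    exact hy (by rw [← hQf]; exact hx y)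
  rw [reflGroup_eq_top Q hnd (by rw [Module.finrank_fintype_fun_eq_card]; omega)]
  exact Subgroup.mem_top _

end CfsgLib.SpTwoOver
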