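/-
Dimension four over the field of two elements.
-/
import Cfsg.Agent.Lib.SpTwoOver.Omega

set_option autoImplicit false
set_option linter.all false

namespace CfsgLib.SpTwoOver

open Matrix CfsgLib.Transvec CfsgLib.SpFour CfsgLib.Classical CfsgLib.KnownSimple.CharTwoInv
open scoped MatrixGroups

variable {ι : Type} [Fintype ι] [DecidableEq ι] {F : Type*} [Field F] [CharP F 2] [Fintype F]
  {f : (ι → F) → (ι → F) → F} {L : Subgroup (GL ι F)} {a0 : ι → F}

/-- A hyperbolic line with three points. -/
def Triangle (f : (ι → F) → (ι → F) → F) (L : Subgroup (GL ι F)) (a0 : ι → F) : Prop :=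
  ∃ p r, Orb L a0 p ∧ Orb L a0 r ∧ f p r = 1 ∧ Orb L a0 (p + r)

lemma eq_one_of_ne_zero (hF : Fintype.card F = 2) {x : F} (hx : x ≠ 0) : x = 1 := by
  by_contra h
  classical
  have hsub : ({0, 1, x} : Finset F) ⊆ Finset.univ := Finset.subset_univ _
  have := Finset.card_le_card hsub
  rw [Finset.card_univ, hF, Finset.card_insert_of_notMem (by simp [Ne.symm hx]),
    Finset.card_insert_of_notMem (by simp [Ne.symm h]), Finset.card_singleton] at this
  omega

lemma zero_or_one (hF : Fintype.card F = 2) (x : F) : x = 0 ∨ x = 1 :=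
  or_iff_not_imp_left.2 fun h => eq_one_of_ne_zero hF h

variable (H : Hyp f L a0)

include H

/-- A symplectic basis of the perp of a pair. -/
lemma Hyp.frame (hι : Fintype.card ι = 4) {a b u v : ι → F} (hab : f a b = 1) (hu : InW f a b u)
    (hv : InW f a b v) (huv : f u v = 1) {x : ι → F} (hx : InW f a b x) : x = f x v • u + f x u • v := by
  have hf := H.symp
  set y := proj f u v x with hy
  have hyW : InW f a b y := by
    rw [hy, proj]
    exact (hx.add hf (hu.smul hf _)).add hf (hv.smul hf _)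
  have hyuv := proj_inW hf huv x
  rw [← hy] at hyuv
  have hba : f b a = 1 := by rw [form_comm hf, hab]
  have hvu : f v u = 1 := by rw [form_comm hf, huv]
  have hli : LinearIndependent F ![a, b, u, v] := Fintype.linearIndependent_iff.2 fun g hg => by
    have h : ∀ z, g 0 * f a z + g 1 * f b z + g 2 * f u z + g 3 * f v z = 0 := fun z => by
      have := congrArg (fun w => f w z) hg
      simpa [Fin.sum_univ_four, add_left' hf, smul_left' hf, zero_left' hf] using this
    have h1 := h b
    have h2 := h a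
    have h3 := h v
    have h4 := h u
    simp only [hab, hba, huv, hvu, hf.alternating, form_comm hf u a, form_comm hf u b, form_comm hf v a,
      form_comm hf v b, hu.1, hu.2, hv.1, hv.2, mul_zero, mul_one, add_zero, zero_add] at h1 h2 h3 h4
    intro i
    fin_cases i <;> assumption
  have htop := hli.span_eq_top_of_card_eq_finrank (by rw [Fintype.card_fin, Module.finrank_fintype_fun_eq_card, hι])
  have hall : ∀ z, f z y = 0 := fun z => by
    have hz : z ∈ Submodule.span F (Set.range ![a, b, u, v]) := htop ▸ Submodule.mem_top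
    induction hz using Submodule.span_induction with
    | mem z hz =>
      obtain ⟨i, rfl⟩ := hz
      fin_cases i
      · exact hyW.1
      · exact hyW.2
      · exact hyuv.1
      · exact hyuv.2
    | zero => exact zero_left' hf y
    | add p q _ _ hp hq => rw [add_left' hf, hp, hq, add_zero]
    | smul c p _ hp => rw [smul_left' hf, hp, mul_zero]
  have hy0 : y = 0 := by
    by_contra h
    obtain ⟨z, hz⟩ := (hf.nondegenerate y h).1
    exact hz (hall z)
  have := proj_decomp hf (a := u) (b := v) x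
  rwa [← hy, hy0, zero_add] at this

variable (hF : Fintype.card F = 2)

include hF

/-- Without a third point on a line parameters agree. -/
theorem agree_of_noTriangle (hT : ¬ Triangle f L a0) : Agree f L a0 := by
  have hf := H.symp
  intro a b φ ψ hab ha hb hφ hψ u hu
  have hba : f b a = 1 := by rw [form_comm hf, hab]
  by_contra hne
  refine hT ⟨a, b, ha, hb, hab, ?_⟩
  have hfix : ∀ c, (Rt f b u c : Matrix ι ι F) *ᵥ u = u := fun c =>
    Rt_fix hf hu.2 (by rw [form_comm hf, hu.2]) (hf.alternating u) c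
  have hfix' : ∀ c, (Rt f a u c : Matrix ι ι F) *ᵥ u = u := fun c =>
    Rt_fix hf hu.1 (by rw [form_comm hf, hu.1]) (hf.alternating u) c
  rcases zero_or_one hF (φ u) with e | e <;> rcases zero_or_one hF (ψ u) with e' | e'
  · exact absurd (e'.trans e.symm) hne
  · have h := (ha.transl hf H.iso (hψ.mem u hu.2)).transl hf H.iso (hφ.mem u hu.1)
    rw [Rt_apply_partner' hf hba hu.symm, e, e', one_smul, mulVec_add, mulVec_add, Rt_apply_partner' hf hab hu,
      hfix', Rt_fix hf hu.1 (hf.alternating a) hu.1, zero_smul, add_zero] at h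
    convert h using 1
    linear_combination (norm := module) -add_vec u
  · have h := (hb.transl hf H.iso (hφ.mem u hu.1)).transl hf H.iso (hψ.mem u hu.2)
    rw [Rt_apply_partner' hf hab hu, e, e', one_smul, mulVec_add, mulVec_add, Rt_apply_partner' hf hba hu.symm,
      hfix, Rt_fix hf hu.2 (hf.alternating b) hu.2, zero_smul, add_zero] at h
    convert h using 1
    linear_combination (norm := module) -add_vec u
  · exact absurd (e'.trans e.symm) hne

lemma reach_off {p r : ι → F} (hpr : f p r = 1) (hp : Orb L a0 p) (hr : Orb L a0 r) (hs : Orb L a0 (p + r))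
    {y : ι → F} (hy : f y p ≠ 0) : Orb L a0 y := by
  have hf := H.symp
  obtain ⟨φ0, h0⟩ := H.sieg
  obtain ⟨φ, hφ⟩ := hp.sieg hf H.iso h0
  set w := proj f p r y with hw
  have hwW := proj_inW hf hpr y
  rw [← hw] at hwW
  have hdec := proj_decomp hf (a := p) (b := r) y
  rw [← hw, eq_one_of_ne_zero hF hy, one_smul] at hdec
  rw [add_comm p r, ← one_smul F p] at hs
  rcases zero_or_one hF (φ w + f y r) with e | e
  · have := hr.transl hf H.iso (hφ.mem w hwW.1)
    rw [Rt_apply_partner' hf hpr hwW, CharTwo.add_eq_zero.1 e] at this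
    convert this using 1
    exact hdec.trans (by abel)
  · have := hs.transl hf H.iso (hφ.mem w hwW.1)
    rw [Rt_apply_partner hf hpr hwW] at this
    have e2 : φ w + 1 = f y r := by linear_combination e + (1 - f y r) * (CharTwo.two_eq_zero (R := F))
    rw [e2] at this
    convert this using 1
    exact hdec.trans (by abel)

/-- With a triangle all non-zero vectors are points. -/
theorem reach (hT : Triangle f L a0) {x : ι → F} (hx : x ≠ 0) : Orb L a0 x := by
  have hf := H.symp
  obtain ⟨p, r, hp, hr, hpr, hs⟩ := hT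
  have hrp : f r p = 1 := by rw [form_comm hf, hpr]
  by_cases hxp : f x p = 0
  swap
  · exact reach_off H hF hpr hp hr hs hxp
  by_cases hxr : f x r = 0
  swap
  · exact reach_off H hF hrp hr hp (by rwa [add_comm]) hxr
  have hW : InW f p r x := ⟨by rw [form_comm hf, hxp], by rw [form_comm hf, hxr]⟩
  obtain ⟨w, hw, hxw⟩ := exists_inW_pair hf hpr hW hx 1
  obtain ⟨φ0, h0⟩ := H.sieg
  obtain ⟨φ, hφ⟩ := hp.sieg hf H.iso h0
  set r' := r + w + φ w • p with hr'
  have h1 : Orb L a0 r' := by
    have := hr.transl hf H.iso (hφ.mem w hw.1)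
    rwa [Rt_apply_partner' hf hpr hw] at this
  have h2 : Orb L a0 (r' + p) := by
    have := hs.transl hf H.iso (hφ.mem w hw.1)
    rw [add_comm p r, mulVec_add, Rt_apply_partner' hf hpr hw,
      Rt_fix hf hw.1 (hf.alternating p) hw.1] at this
    exact this
  refine reach_off H hF (p := r') (r := p) ?_ h1 hp h2 ?_
  · rw [hr', add_left' hf, add_left' hf, smul_left' hf, hf.alternating, hrp, form_comm hf w p, hw.1, mul_zero,
      add_zero, add_zero]
  · rw [hr', add_right' hf, add_right' hf, smul_right' hf, hxp, hxr, hxw, mul_zero, zero_add, add_zero]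
    exact one_ne_zero

variable (hι : Fintype.card ι = 4) (hN : NoT f L a0)

include hι hN

/-- A triangle makes the group large. -/
theorem large (hT : Triangle f L a0) : ∃ k, 2 ≤ k ∧ Nat.card L = 60 * k := by
  classical
  have hf := H.symp
  obtain ⟨φ, hφ⟩ := H.sieg
  obtain ⟨b, hb, hab⟩ := H.exists_pair
  obtain ⟨u0, hu0, hu00⟩ := H.exists_inW (a := a0) (b := b)
  obtain ⟨u, hu, hφu⟩ := surj hf hab hφ hu0 hu00 1
  have hune : u ≠ 0 := fun h => one_ne_zero (hφu.symm.trans (h ▸ hφ.zero hf))
  obtain ⟨v, hv, huv⟩ := exists_inW_pair hf hab hu hune 1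
  letI act : MulAction L (ι → F) :=
    { smul := fun g x => ((g : GL ι F) : Matrix ι ι F) *ᵥ x
      one_smul := fun x => by show ((1 : GL ι F) : Matrix ι ι F) *ᵥ x = x; simp
      mul_smul := fun g h x => by show ((g : GL ι F) * h : GL ι F).val *ᵥ x = _; exact mul_mulVec _ _ _ }
  have horb : MulAction.orbit L a0 = {x | x ≠ 0} := by
    ext x
    constructor
    · rintro ⟨g, rfl⟩
      exact mulVec_ne_zero (g : GL ι F) H.ne
    · intro hx
      obtain ⟨g, hg, s, hs, rfl⟩ := reach H hF hT hx
      exact ⟨⟨g, hg⟩, by rw [eq_one_of_ne_zero hF hs, one_smul]; rfl⟩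
  have hidx : (MulAction.stabilizer L a0).index = 15 := by
    rw [MulAction.index_stabilizer, horb, show ({x | x ≠ 0} : Set (ι → F)) = {0}ᶜ from rfl, Set.ncard_compl,
      Set.ncard_singleton, Nat.card_eq_fintype_card, Fintype.card_fun, hF, hι]
    all_goals norm_num
  set S := MulAction.stabilizer L a0 with hS
  let vec : F × F → ι → F := fun p => p.1 • u + p.2 • v
  have hvec : ∀ p, InW f a0 b (vec p) := fun p => (hu.smul hf _).add hf (hv.smul hf _)
  let θ : Multiplicative (F × F) →* S := MonoidHom.mk'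
    (fun p => ⟨⟨Rt f a0 (vec p.toAdd) (φ (vec p.toAdd)), hφ.mem _ (hvec _).1⟩,
      Rt_fix hf (hvec _).1 (hf.alternating a0) (hvec _).1 _⟩)
    fun p q => by
      refine Subtype.ext (Subtype.ext ?_)
      show Rt f a0 _ _ = Rt f a0 _ _ * Rt f a0 _ _
      rw [Rt_mul hf (hvec _).1 (hvec _).1, show vec (p * q).toAdd = vec p.toAdd + vec q.toAdd by
        simp only [vec, toAdd_mul, Prod.fst_add, Prod.snd_add, add_smul]; abel]
      rw [hφ.add _ _ (hvec _).1 (hvec _).1]
  have hread : ∀ {w : ι → F} {c : F}, InW f a0 b w → proj f a0 b ((Rt f a0 w c : Matrix ι ι F) *ᵥ b) = w := by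
    intro w c hw
    rw [Rt_apply_partner' hf hab hw, proj_add hf, proj_add hf, proj_smul hf, proj_of_inW hf hw, proj, proj,
      hf.alternating, hf.alternating, form_comm hf b a0, hab, one_smul, one_smul, zero_smul, zero_smul, add_zero,
      add_zero, add_vec, add_vec, smul_zero, zero_add, add_zero]
  have hθ : Function.Injective θ := fun p q e => by
    have e1 : Rt f a0 (vec p.toAdd) (φ (vec p.toAdd)) = Rt f a0 (vec q.toAdd) (φ (vec q.toAdd)) :=
      congrArg (fun g : S => ((g : L) : GL ι F)) e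
    have e2 : vec p.toAdd = vec q.toAdd := by
      have := congrArg (fun g : GL ι F => proj f a0 b ((g : Matrix ι ι F) *ᵥ b)) e1
      simpa only [hread (hvec _)] using this
    have hvu : f v u = 1 := by rw [form_comm hf, huv]
    have e3 := congrArg (fun z => (f z v, f z u)) e2
    simp only [vec, add_left' hf, smul_left' hf, hf.alternating, huv, hvu, mul_one, mul_zero, add_zero, zero_add] at e3
    exact Multiplicative.toAdd.injective e3
  have hcard : Nat.card θ.range = 4 := by
    rw [← Nat.card_congr (MonoidHom.ofInjective hθ).toEquiv,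
      Nat.card_congr Multiplicative.toAdd, Nat.card_prod, Nat.card_eq_fintype_card, hF]
  -- an element of the stabiliser outside
  have hou : Orb L a0 u := reach H hF hT hune
  obtain ⟨χ, hχ⟩ := hou.sieg hf H.iso hφ
  have hua : f u a0 = 0 := by rw [form_comm hf, hu.1]
  let g : S := ⟨⟨Rt f u a0 (χ a0), hχ.mem a0 hua⟩, Rt_fix hf hua (by rw [form_comm hf, hua]) (hf.alternating a0) _⟩
  have hg : g ∉ θ.range := by
    rintro ⟨p, hp⟩
    have e1 : Rt f a0 (vec p.toAdd) (φ (vec p.toAdd)) = Rt f u a0 (χ a0) :=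
      congrArg (fun g : S => ((g : L) : GL ι F)) hp
    have hb' : (Rt f u a0 (χ a0) : Matrix ι ι F) *ᵥ b = b + u := by
      rw [Rt_mulVec hf hua, hu.2, form_comm hf b a0, hab, zero_smul, one_smul, mul_zero, zero_smul, add_zero,
        add_zero]
    have e2 := congrArg (fun g : GL ι F => (g : Matrix ι ι F) *ᵥ b) e1
    simp only [hb', Rt_apply_partner' hf hab (hvec _)] at e2
    have e3 := congrArg (proj f a0 b) e2
    rw [← Rt_apply_partner' hf hab (hvec p.toAdd) (φ (vec p.toAdd)), hread (hvec _)] at e3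
    have hpu : proj f a0 b (b + u) = u := by
      rw [proj_add hf, proj_of_inW hf hu, proj, hf.alternating, form_comm hf b a0, hab, zero_smul, one_smul,
        add_zero, add_vec, zero_add]
    rw [hpu] at e3
    rw [e3, hφu, one_smul, add_eq_left] at e2
    exact H.ne e2
  have hdiv : 4 ∣ Nat.card S := hcard ▸ Subgroup.card_subgroup_dvd_card θ.range
  obtain ⟨k, hk⟩ := hdiv
  have hk1 : k ≠ 1 := fun h => hg (by
    have : θ.range = ⊤ := Subgroup.eq_top_of_card_eq _ (by rw [hcard, hk, h])
    rw [this]; exact Subgroup.mem_top _)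
  have hk0 : k ≠ 0 := fun h => (Nat.card_pos (α := S)).ne' (by rw [hk, h])
  refine ⟨k, by omega, ?_⟩
  rw [← Subgroup.card_mul_index S, hidx, hk]
  ring

/-- Without a triangle the group fixes a quadratic form. -/
theorem orth_four (hT : ¬ Triangle f L a0) :
    ∃ Q : QuadraticForm F (ι → F), (∀ u v, QuadraticMap.polar Q u v = f u v) ∧
      (L = Cfsg.isometryGroup F ⇑Q ∨
        ∀ g : GL ι F, g ∈ L ↔ g ∈ Cfsg.isometryGroup F ⇑Q ∧ Even ((g : Matrix ι ι F) - 1).rank) := by
  have hf := H.symp
  have hpe : Agree f L a0 := agree_of_noTriangle H hF hT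
  obtain ⟨φ, hφ⟩ := H.sieg
  obtain ⟨b, hb, hab⟩ := H.exists_pair
  obtain ⟨Q, hQf, hga, hgb⟩ := H.form_of_pair hpe hφ hb hab fun w hw c => by
    rcases zero_or_one hF c with rfl | rfl
    · rw [zero_smul, hφ.zero hf, zero_pow two_ne_zero, zero_mul]
    · rw [one_smul, one_pow, one_mul]
  have gs := fun {x : ι → F} => good_of_singular hf hQf H hpe hga hgb hab (x := x)
  have hnd : PolarNondeg Q := fun x hx => by
    by_contra hx0
    obtain ⟨y, hy⟩ := (hf.nondegenerate x hx0).2
    exact hy (by rw [← hQf]; exact hx y)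
  have hn : Module.finrank F (ι → F) = 4 := by rw [Module.finrank_fintype_fun_eq_card, hι]
  have hsing : ∀ {r}, Orb L a0 r → Q r = 0 := fun {r} hr => by
    by_contra hQr
    obtain ⟨p, hp, hpr⟩ := exists_singular_polar Q hnd (by omega) (hr.ne_zero hf H.iso H.ne)
    rw [hQf] at hpr
    have hp0 : p ≠ 0 := fun h => hpr (by rw [h, zero_left' hf])
    have hpr1 := eq_one_of_ne_zero hF hpr
    have hpd : f p (r + p) = 1 := by rw [add_right' hf, hf.alternating, add_zero, hpr1]
    have hQd : Q (r + p) = 0 := by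
      rw [quad_add' hQf, hp, eq_one_of_ne_zero hF hQr, form_comm hf, hpr1, add_zero, two_mem]
    have hgd := gs (x := r + p) (fun h => by rw [h, zero_right' hf] at hpd; exact zero_ne_one hpd) hQd
    refine hT ⟨p, r + p, (gs hp0 hp).1, hgd.1, hpd, ?_⟩
    rwa [← add_assoc, add_comm p r, add_assoc, add_vec, add_zero]
  refine ⟨Q, hQf, H.sandwich hQf (fun g hg x y => invariant hf hQf H hpe hga hgb hab hN hsing hg x)
    (fun hu0 hu => gs hu0 hu) fun g => ?_⟩
  have hpab : QuadraticMap.polar Q a0 b = 1 := by rw [hQf, hab]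
  obtain ⟨e, he, hea, heb⟩ := exists_move_pair Q hnd (by omega) hga.2.1 hgb.2.1 hpab
    (by rw [qAut_map, hga.2.1] : Q (g.1 a0) = 0) (by rw [qAut_map, hgb.2.1] : Q (g.1 b) = 0)
    (by rw [qAut_polar, hpab])
  refine ⟨e, he, ?_⟩
  obtain ⟨u0, hu0, hu00⟩ := H.exists_inW (a := a0) (b := b)
  obtain ⟨u, hu, hQu⟩ := surj hf hab (Good.sieg hf hQf hga) hu0 hu00 1
  have hQu' : Q u ≠ 0 := hQu ▸ one_ne_zero
  obtain ⟨v, hv, huv⟩ := exists_inW_pair hf hab hu (fun h => hQu' (by rw [h]; exact QuadraticMap.map_zero Q)) 1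
  have hall : ∀ h : qAut Q, h.1 a0 = a0 → h.1 b = b → h.1 u = u → h.1 v = v → h = 1 := fun h ha hb hu' hv' => by
    refine qAut_ext fun x => ?_
    show h.1 x = x
    have e1 := proj_decomp hf (a := a0) (b := b) x
    rw [H.frame hι hab hu hv huv (proj_inW hf hab x)] at e1
    rw [e1]
    simp only [map_add, map_smul, ha, hb, hu', hv']
  have hW : ∀ h : qAut Q, h.1 a0 = a0 → h.1 b = b → ∀ {w}, InW f a0 b w → InW f a0 b (h.1 w) :=
    fun h ha hb w hw => by
    constructor <;> rw [← hQf]
    · rw [← ha, qAut_polar, hQf]; exact hw.1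
    · rw [← hb, qAut_polar, hQf]; exact hw.2
  have hru : ∀ {z}, InW f a0 b z → ∀ hz : Q z ≠ 0, (qRefl Q hz).1 a0 = a0 ∧ (qRefl Q hz).1 b = b :=
    fun {z} hz hQz => ⟨qRefl_fix Q hQz (by rw [hQf]; exact hz.1), qRefl_fix Q hQz (by rw [hQf]; exact hz.2)⟩
  have step : ∀ h : qAut Q, h.1 a0 = a0 → h.1 b = b → h.1 u = u → h ∈ reflGroup Q := by
    intro h ha hb hu'
    have hf1 : f u (h.1 v) = 1 := by rw [← hQf, ← hu', qAut_polar, hQf, huv]
    have hdec := H.frame hι hab hu hv huv (hW h ha hb hv)
    rw [form_comm hf (h.1 v) u, hf1, one_smul] at hdec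
    rcases zero_or_one hF (f (h.1 v) v) with e0 | e0 <;> rw [e0] at hdec
    · rw [zero_smul, zero_add] at hdec
      rw [hall h ha hb hu' hdec]
      exact one_mem _
    · rw [one_smul] at hdec
      have hfu : (qRefl Q hQu').1 u = u := qRefl_fix Q hQu' (by rw [hQf, hf.alternating])
      have hfv : (qRefl Q hQu').1 v = u + v := by
        rw [qRefl_apply, hQu, inv_one, one_mul, hQf, form_comm hf, huv, one_smul, sub_eq_add_neg,
          CfsgLib.SpFour.neg_vec, add_comm]
      have := hall (qRefl Q hQu' * h) (by rw [qAut_mul_apply, ha, (hru hu hQu').1])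
        (by rw [qAut_mul_apply, hb, (hru hu hQu').2]) (by rw [qAut_mul_apply, hu', hfu])
        (by rw [qAut_mul_apply, hdec, map_add, hfu, hfv, ← add_assoc, add_vec, zero_add])
      rw [eq_inv_of_mul_eq_one_right this, qRefl_inv]
      exact qRefl_mem Q hQu'
  have ha1 : (e⁻¹ * g).1 a0 = a0 := by
    rw [qAut_mul_apply, ← hea, ← qAut_mul_apply, inv_mul_cancel]; rfl
  have hb1 : (e⁻¹ * g).1 b = b := by
    rw [qAut_mul_apply, ← heb, ← qAut_mul_apply, inv_mul_cancel]; rfl
  generalize e⁻¹ * g = h at ha1 hb1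
  by_cases hhu : h.1 u = u
  · exact step h ha1 hb1 hhu
  have hWu := hW h ha1 hb1 hu
  have hdec := H.frame hι hab hu hv huv hWu
  have hne : Q (h.1 u - u) ≠ 0 := by
    rw [quad_sub, qAut_map, hQu, hQf, two_mem, zero_sub, neg_ne_zero]
    intro h0
    rw [h0, zero_smul, add_zero] at hdec
    rcases zero_or_one hF (f (h.1 u) v) with e0 | e0 <;> rw [e0] at hdec
    · rw [zero_smul] at hdec
      have := qAut_map h u
      rw [hdec, QuadraticMap.map_zero, hQu] at this
      exact zero_ne_one this
    · exact hhu (by rwa [one_smul] at hdec)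
  have hdW : InW f a0 b (h.1 u - u) := by
    rw [sub_eq_add_neg, CfsgLib.SpFour.neg_vec]; exact hWu.add hf hu
  have := step (qRefl Q hne * h) (by rw [qAut_mul_apply, ha1, (hru hdW hne).1])
    (by rw [qAut_mul_apply, hb1, (hru hdW hne).2])
    (by rw [qAut_mul_apply]; exact qRefl_exchange Q (qAut_map h u) hne)
  have h2 := mul_mem (qRefl_mem Q hne) this
  rwa [← mul_assoc, qRefl_mul_self, one_mul] at h2

end CfsgLib.SpTwoOver
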